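import Cfsg.Agent.LT2.Gen
import Cfsg.Agent.S1023
import Cfsg.Agent.S1024
import Cfsg.Agent.S2326
import Cfsg.Agent.Helper7.ChevMono
import Cfsg.Prelude.Def_LieTypeChar

/-!
# LT2, family (a): Chevalley groups `D.group F` (types G₂, B₂, D₄, F₄, E₆, E₇, E₈) in characteristic 2

`posUnipotent` is a Sylow `2`-subgroup (S2326) generated by the involutions `x_r(t)`, `r > 0`.
-/

set_option autoImplicit false

namespace Cfsg.Agent.LT2

open Cfsg Cfsg.Lie Matrix

/-- `(closure S).subgroupOf H = closure (val ⁻¹' S)` when `S ⊆ H`. -/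
theorem lt2_subgroupOf_closure {G : Type*} [Group G] (H : Subgroup G) (S : Set G) (hS : S ⊆ H) :
    (Subgroup.closure S).subgroupOf H = Subgroup.closure (((↑) : H → G) ⁻¹' S) := by
  apply Subgroup.map_injective H.subtype_injective
  have hle : Subgroup.closure S ≤ H := (Subgroup.closure_le H).mpr hS
  rw [Subgroup.map_subgroupOf_eq_of_le hle, MonoidHom.map_closure]
  congr 1
  show S = ((↑) : H → G) '' (((↑) : H → G) ⁻¹' S)
  ext g
  constructor
  · intro hg
    exact ⟨⟨g, hS hg⟩, hg, rfl⟩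
  · rintro ⟨g', hg', rfl⟩
    exact hg'

/-- **Family (a)**: in characteristic 2, every Sylow `2`-subgroup `P` of a Chevalley group
`D.group F` has `y ^ 2 ∈ ⁅P, P⁆` for all `y ∈ P`. -/
theorem lt2_chev {F : Type*} [Field F] [Fintype F] [CharP F 2] (D : ChevalleyDatum)
    (hD : D ∈ [chevG2, chevB2, chevD4, chevF4, chevE6, chevE7, chevE8]) :
    ∀ P : Sylow 2 ↥(D.group F), ∀ y ∈ (P : Subgroup ↥(D.group F)),
      y ^ 2 ∈ ⁅(P : Subgroup ↥(D.group F)), (P : Subgroup ↥(D.group F))⁆ := by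
  have : Fact (Nat.Prime 2) := ⟨Nat.prime_two⟩
  obtain ⟨P₀, hP₀⟩ := Cfsg.Agent.S2326.result (F := F) 2 D hD
  set S : Set (GL D.Idx F) :=
    {g | ∃ (r : ℕ) (t : F), D.IsPosRoot r ∧ (g : Matrix D.Idx D.Idx F) = D.x F r t} with hS
  have hSle : S ⊆ (D.group F : Set (GL D.Idx F)) := by
    intro g hg
    exact Cfsg.Agent.Helper7.Chev.posUnipotent_le_group (Subgroup.subset_closure hg)
  have hU : (P₀ : Subgroup ↥(D.group F)) =
      Subgroup.closure (((↑) : ↥(D.group F) → GL D.Idx F) ⁻¹' S) := by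
    rw [hP₀]
    exact lt2_subgroupOf_closure (D.group F) S hSle
  refine lt2_of_generators P₀ _ hU ?_
  rintro x ⟨r, t, hr, hx⟩
  have h1 : (x : GL D.Idx F) ^ 2 = 1 := by
    apply Units.ext
    rw [Units.val_pow_eq_pow_val, hx, pow_two, Cfsg.Agent.S1023.result D hD r hr.1]
    have : t + t = 0 := by
      rw [← two_mul, CharTwo.two_eq_zero, zero_mul]
    rw [this, Units.val_one]
    exact (Cfsg.Agent.S1024.result D hD r hr.1 (0 : F)).mpr rfl
  have h2 : x ^ 2 = 1 := Subtype.ext (by simpa using h1)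
  rw [h2]
  exact Subgroup.one_mem _

end Cfsg.Agent.LT2
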