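import Cfsg.Agent.LT2.ExcChev

/-! LT2, family (a): the five named corollaries of `lt2_chev` in the stub shapes of
`notes/LT2/Stubs_helper1.lean.txt`, plus two more glue lemmas (`lt2_of_exists`, `lt2_of_iso_fin`). -/

set_option autoImplicit false

namespace Cfsg.Agent.LT2

open Cfsg Cfsg.Lie

theorem lt2_g2 {F : Type*} [Field F] [Fintype F] [CharP F 2] :
    ∀ P : Sylow 2 (Cfsg.Lie.chevG2.group F), ∀ y ∈ (P : Subgroup (Cfsg.Lie.chevG2.group F)),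
      y ^ 2 ∈ ⁅(P : Subgroup (Cfsg.Lie.chevG2.group F)), (P : Subgroup (Cfsg.Lie.chevG2.group F))⁆ :=
  lt2_chev chevG2 (by simp)

theorem lt2_f4c {F : Type*} [Field F] [Fintype F] [CharP F 2] :
    ∀ P : Sylow 2 (Cfsg.Lie.chevF4.group F), ∀ y ∈ (P : Subgroup (Cfsg.Lie.chevF4.group F)),
      y ^ 2 ∈ ⁅(P : Subgroup (Cfsg.Lie.chevF4.group F)), (P : Subgroup (Cfsg.Lie.chevF4.group F))⁆ :=
  lt2_chev chevF4 (by simp)

theorem lt2_e6c {F : Type*} [Field F] [Fintype F] [CharP F 2] :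
    ∀ P : Sylow 2 (Cfsg.Lie.chevE6.group F), ∀ y ∈ (P : Subgroup (Cfsg.Lie.chevE6.group F)),
      y ^ 2 ∈ ⁅(P : Subgroup (Cfsg.Lie.chevE6.group F)), (P : Subgroup (Cfsg.Lie.chevE6.group F))⁆ :=
  lt2_chev chevE6 (by simp)

theorem lt2_e7c {F : Type*} [Field F] [Fintype F] [CharP F 2] :
    ∀ P : Sylow 2 (Cfsg.Lie.chevE7.group F), ∀ y ∈ (P : Subgroup (Cfsg.Lie.chevE7.group F)),
      y ^ 2 ∈ ⁅(P : Subgroup (Cfsg.Lie.chevE7.group F)), (P : Subgroup (Cfsg.Lie.chevE7.group F))⁆ :=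
  lt2_chev chevE7 (by simp)

theorem lt2_e8c {F : Type*} [Field F] [Fintype F] [CharP F 2] :
    ∀ P : Sylow 2 (Cfsg.Lie.chevE8.group F), ∀ y ∈ (P : Subgroup (Cfsg.Lie.chevE8.group F)),
      y ^ 2 ∈ ⁅(P : Subgroup (Cfsg.Lie.chevE8.group F)), (P : Subgroup (Cfsg.Lie.chevE8.group F))⁆ :=
  lt2_chev chevE8 (by simp)

/-- helper8's interface: a `2`-subgroup `U` of odd index with all squares in `⁅U, U⁆`. -/
theorem lt2_of_exists {G₀ : Type*} [Group G₀] [Finite G₀]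
    (h : ∃ U : Subgroup G₀, IsPGroup 2 U ∧ ¬ 2 ∣ U.index ∧ ∀ x ∈ U, x * x ∈ ⁅U, U⁆) :
    ∀ P : Sylow 2 G₀, ∀ y ∈ (P : Subgroup G₀),
      y ^ 2 ∈ ⁅(P : Subgroup G₀), (P : Subgroup G₀)⁆ := by
  have : Fact (Nat.Prime 2) := ⟨Nat.prime_two⟩
  obtain ⟨U, hU, hidx, hsq⟩ := h
  refine lt2_of_sylow (hU.toSylow hidx) ?_
  intro y hy
  rw [pow_two]
  exact hsq y hy

/-- `lt2_of_iso` with finiteness of the source instead of the target. -/
theorem lt2_of_iso_fin {G G₀ : Type*} [Group G] [Finite G] [Group G₀] (e : G ≃* G₀)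
    (h : ∀ P : Sylow 2 G₀, ∀ y ∈ (P : Subgroup G₀),
      y ^ 2 ∈ ⁅(P : Subgroup G₀), (P : Subgroup G₀)⁆)
    (P : Sylow 2 G) : ∀ x : (P : Subgroup G), x ^ 2 ∈ commutator (P : Subgroup G) := by
  have : Finite G₀ := Finite.of_equiv G e.toEquiv
  exact lt2_of_iso e h P

end Cfsg.Agent.LT2
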