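import Mathlib
import Cfsg.Agent.Helper8.SzSylE

set_option autoImplicit false

/-!
S4625, family (g): the Suzuki groups `Sz(q)`, `q = 2^(2m+1) ≥ 8`.  In the coordinates
`s a b * s c d = s (a + c) (b + d + σ a * c)` of a Sylow `2`-subgroup `P` (helper8's `SzSyl.Coord`),
`x² = s 0 (σ a · a)` and `⁅s a 0, s c 0⁆ = s 0 (σ a · c + σ c · a)`; every non-zero field element is
of the form `σ a · c + σ c · a`, so every square is a commutator.
-/

namespace Cfsg.Agent.LT2

open Cfsg.Agent.Helper7.Sz Cfsg.Agent.Helper8.SzSyl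
open scoped commutatorElement

variable {F : Type*} [Field F] [Fintype F] {m : ℕ}

/-- every non-zero element of the field is a value of the polarisation `Bf` of the norm -/
theorem lt2_sz_exists_Bf (h : FH F m) {w : F} (hw : w ≠ 0) : ∃ a c : F, Bf m a c = w := by
  classical
  -- an element different from `0` and `1`
  obtain ⟨x₁, hx0, hx1⟩ : ∃ x : F, x ≠ 0 ∧ x ≠ 1 := by
    have hcard : 2 < Fintype.card F := by
      have := h.card_ge
      omega
    obtain ⟨a, b, c, hab, hac, hbc⟩ := Fintype.two_lt_card_iff.mp hcard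
    by_cases ha : a ≠ 0 ∧ a ≠ 1
    · exact ⟨a, ha⟩
    by_cases hb : b ≠ 0 ∧ b ≠ 1
    · exact ⟨b, hb⟩
    refine ⟨c, ?_, ?_⟩
    · rintro rfl
      rw [not_and_or, not_not, not_not] at ha hb
      rcases ha with ha | ha <;> rcases hb with hb | hb
      · exact hac ha
      · exact hac ha
      · exact hbc hb
      · exact hab (ha.trans hb.symm)
    · rintro rfl
      rw [not_and_or, not_not, not_not] at ha hb
      rcases ha with ha | ha <;> rcases hb with hb | hb
      · exact hab (ha.trans hb.symm)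
      · exact hbc hb
      · exact hac ha
      · exact hac ha
  have hh₁ : sg m x₁ + x₁ ≠ 0 := by
    intro h0
    rcases h.sg_eq_self (h.eq_of_add_eq_zero h0) with h1 | h1
    · exact hx0 h1
    · exact hx1 h1
  obtain ⟨a, ha⟩ := Nm_surjective h (w / (sg m x₁ + x₁))
  have ha0 : a ≠ 0 := by
    rintro rfl
    rw [(Nm_eq_zero (m := m)).mpr rfl] at ha
    exact (div_ne_zero hw hh₁) ha.symm
  refine ⟨a, a * x₁, ?_⟩
  have e : a * x₁ / a = x₁ := by field_simp
  rw [Bf_eq ha0, ha, e, div_mul_cancel₀ _ hh₁]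

theorem lt2_sz_eq_commutator {G : Type*} [Group G] {u a b : G} (h : u * b * a = a * b) :
    u = ⁅a, b⁆ := by
  rw [commutatorElement_def]
  have h1 : u = a * b * (b * a)⁻¹ := by
    rw [eq_mul_inv_iff_mul_eq, ← mul_assoc]
    exact h
  rw [h1, _root_.mul_inv_rev, ← mul_assoc]

variable {S : Type*} [Group S]

/-- the commutator of two elements in coordinates -/
theorem lt2_sz_commutator (C : Coord F m S) (a c : F) :
    C.s 0 (Bf m a c) = ⁅C.s a 0, C.s c 0⁆ := by
  apply lt2_sz_eq_commutator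
  rw [C.mul, C.mul, C.mul, sg_zero]
  simp only [zero_add, add_zero, zero_mul]
  congr 1
  · ring
  · unfold Bf
    have := C.fh.add_self (sg m c * a)
    linear_combination this

/-- in a group with Suzuki coordinates every square is a commutator -/
theorem lt2_sz_sq_mem (C : Coord F m S) (x : S) : x ^ 2 ∈ commutator S := by
  rw [pow_two, C.sq]
  by_cases hw : sg m (C.co1 x) * C.co1 x = 0
  · rw [hw, C.s_zero]
    exact Subgroup.one_mem _
  · obtain ⟨a, c, hac⟩ := lt2_sz_exists_Bf C.fh hw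
    rw [← hac, lt2_sz_commutator, commutator_def]
    exact Subgroup.commutator_mem_commutator (Subgroup.mem_top _) (Subgroup.mem_top _)

/-- **Family (g).**  Sylow `2`-subgroups of the Suzuki groups. -/
theorem lt2_sz (m : ℕ) (hm : 1 ≤ m) (hF : Fintype.card F = 2 ^ (2 * m + 1)) :
    ∀ P : Sylow 2 ↥(Cfsg.Lie.Sz F (2 ^ (m + 1))),
      ∀ y ∈ (P : Subgroup ↥(Cfsg.Lie.Sz F (2 ^ (m + 1)))),
        y ^ 2 ∈ ⁅(P : Subgroup ↥(Cfsg.Lie.Sz F (2 ^ (m + 1)))),
          (P : Subgroup ↥(Cfsg.Lie.Sz F (2 ^ (m + 1))))⁆ := by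
  intro P y hy
  obtain ⟨C⟩ := exists_coord (S := ↥(P : Subgroup ↥(Cfsg.Lie.Sz F (2 ^ (m + 1))))) hm hF P
    ⟨MulEquiv.refl _⟩
  have h := lt2_sz_sq_mem C ⟨y, hy⟩
  rw [← Subgroup.map_subtype_commutator]
  exact ⟨_, h, rfl⟩

end Cfsg.Agent.LT2
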