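import Mathlib
import Cfsg.Agent.LT2.Sz

set_option autoImplicit false

/-!
S4625: the field lemma behind the Suzuki-type root groups (families (g) Sz and ²F₄): over the field
with `2^(2m+1) ≥ 8` elements, with `e = 2^(m+1)`, EVERY non-zero element is of the form
`v^e * w + v * w^e` (a single value, no sums needed), hence the additive span of these values is
the whole field.
-/

namespace Cfsg.Agent.LT2

open Cfsg.Agent.Helper7.Sz Cfsg.Agent.Helper8.SzSyl

variable {F : Type*} [Field F] [Fintype F]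

/-- every non-zero element is a single value `v^e * w + v * w^e`, `e = 2^(m+1)` -/
theorem lt2_sz_exists_pair (m : ℕ) (hm : 1 ≤ m) (hF : Fintype.card F = 2 ^ (2 * m + 1)) {s : F}
    (hs : s ≠ 0) : ∃ v w : F, s = v ^ (2 ^ (m + 1)) * w + v * w ^ (2 ^ (m + 1)) := by
  obtain ⟨a, c, hac⟩ := lt2_sz_exists_Bf (m := m) ⟨hm, hF⟩ hs
  refine ⟨a, c, ?_⟩
  rw [← hac]
  unfold Bf sg
  ring

/-- the additive span of the values `v^e * w + v * w^e` is the whole field -/
theorem lt2_sz_span (m : ℕ) (hm : 1 ≤ m) (hF : Fintype.card F = 2 ^ (2 * m + 1)) (s : F) :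
    s ∈ AddSubgroup.closure
      {x : F | ∃ v w : F, x = v ^ (2 ^ (m + 1)) * w + v * w ^ (2 ^ (m + 1))} := by
  by_cases hs : s = 0
  · rw [hs]
    exact AddSubgroup.zero_mem _
  · exact AddSubgroup.subset_closure (lt2_sz_exists_pair m hm hF hs)

end Cfsg.Agent.LT2
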