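import Mathlib
import Cfsg.Agent.Helper7.ChevF4o
import Cfsg.Agent.LT2.SzField

set_option autoImplicit false
set_option linter.unusedSectionVars false
set_option linter.unusedVariables false

/-!
S4625, family ²F₄: in `U¹ = U ⊓ ²F₄(q)` every square lies in the derived subgroup.

Generic part: for a list of classes (helper7's `FCls`), if in every class group `X` the squares lie in
`⁅X, X⁆`, then the same holds in every group `fM` of fixed points of `U_w⁻`; the induction runs over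
the decomposition `g = (n⁻¹ v n) x` of `FCls.fM_decomp`.

Special part: the class groups of ²F₄ are `{x_r(t^θ) x_r̄(t)}` (elementary abelian) and the group of
the `xS t u` (Suzuki type), where the squares `xS 0 (θ t · t)` are commutators `⁅xS a 0, xS c 0⁆`.
-/

namespace Cfsg.Agent.LT2

open Cfsg Cfsg.Lie Matrix Cfsg.Agent.Helper7.Chev
open scoped commutatorElement

/-- In any group, if the squares of `a` and `b` lie in the derived subgroup of `U ∋ a, b`, so does the
square of `a * b`. -/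
theorem lt2_f4_mul_sq {G : Type*} [Group G] (U : Subgroup G) {a b : G} (ha : a ∈ U) (hb : b ∈ U)
    (ha2 : a ^ 2 ∈ ⁅U, U⁆) (hb2 : b ^ 2 ∈ ⁅U, U⁆) : (a * b) ^ 2 ∈ ⁅U, U⁆ := by
  have e : (a * b) ^ 2 = a ^ 2 * ⁅a⁻¹, b⁆ * b ^ 2 := by
    rw [commutatorElement_def, sq, sq, sq]
    group
  rw [e]
  exact mul_mem (mul_mem ha2 (Subgroup.commutator_mem_commutator (inv_mem ha) hb)) hb2

section generic

variable {D : ChevalleyDatum} {K : Type*} [Field K]
  (hG : Good2 D) (hT : T0 D) (h8 : (tabOf D).T8) {Fx G1 : Subgroup (GL D.Idx K)}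

include hT h8 in
/-- Squares lie in the derived subgroup of the group of the fixed points in `U_w⁻`, as soon as this holds
in the class groups. -/
theorem lt2_f4_fM_sq : ∀ L : List (FCls hG K Fx G1), FClsPos hG L →
    (∀ c ∈ L, ∀ x ∈ c.X, x ^ 2 ∈ ⁅c.X, c.X⁆) →
    ∀ g ∈ fM hG Fx (L.reverse.flatMap FCls.word),
      g ^ 2 ∈ ⁅fM hG Fx (L.reverse.flatMap FCls.word), fM hG Fx (L.reverse.flatMap FCls.word)⁆ := by
  intro L
  induction L with
  | nil =>
    intro _ _ g hg
    rw [List.reverse_nil, List.flatMap_nil, fM_nil hG hT, Subgroup.mem_bot] at hg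
    rw [hg, one_pow]
    exact one_mem _
  | cons c L ih =>
    intro hpp hX g hg
    obtain ⟨hpos, hpp'⟩ := hpp
    rw [List.reverse_cons, List.flatMap_append, List.flatMap_singleton] at hg ⊢
    set w' : List ℕ := L.reverse.flatMap FCls.word with hw'def
    have hw' : ∀ i ∈ w', i < D.rank := flatMap_word_lt hG L.reverse
    obtain ⟨ih1, _, _⟩ := fM_main hG hT h8 L hpp'
    have ih2 := ih hpp' (fun c' hc' => hX c' (List.mem_cons_of_mem _ hc'))
    set n : GL D.Idx K := nWordGL hG c.word with hn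
    obtain ⟨v', hv', x, hx, rfl⟩ := c.fM_decomp hG hT hw' hpos hg
    -- conjugation by `n⁻¹` maps `fM w'` into `fM (w' ++ c.word)`
    have hmap : (fM hG Fx w').map (MulAut.conj n⁻¹).toMonoidHom ≤ fM hG Fx (w' ++ c.word) := by
      rintro _ ⟨v, hv, rfl⟩
      have := (c.fM_compose hG hT hw' hpos ih1 hv).2
      change n⁻¹ * v * n⁻¹⁻¹ ∈ _
      rw [inv_inv]
      exact this
    have ha : n⁻¹ * v' * n ∈ fM hG Fx (w' ++ c.word) := (c.fM_compose hG hT hw' hpos ih1 hv').2
    have hxM : x ∈ fM hG Fx (w' ++ c.word) := c.X_le_fM hG hT hw' hpos hx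
    have ha2 : (n⁻¹ * v' * n) ^ 2 ∈ ⁅fM hG Fx (w' ++ c.word), fM hG Fx (w' ++ c.word)⁆ := by
      have e : (n⁻¹ * v' * n) ^ 2 = (MulAut.conj n⁻¹).toMonoidHom (v' ^ 2) := by
        change _ = n⁻¹ * v' ^ 2 * n⁻¹⁻¹
        rw [inv_inv, sq, sq]
        group
      rw [e]
      have h1 : (MulAut.conj n⁻¹).toMonoidHom (v' ^ 2) ∈
          (⁅fM hG Fx w', fM hG Fx w'⁆).map (MulAut.conj n⁻¹).toMonoidHom :=
        ⟨v' ^ 2, ih2 v' hv', rfl⟩
      rw [Subgroup.map_commutator] at h1
      exact Subgroup.commutator_mono hmap hmap h1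
    have hx2 : x ^ 2 ∈ ⁅fM hG Fx (w' ++ c.word), fM hG Fx (w' ++ c.word)⁆ :=
      Subgroup.commutator_mono (c.X_le_fM hG hT hw' hpos) (c.X_le_fM hG hT hw' hpos)
        (hX c List.mem_cons_self x hx)
    exact lt2_f4_mul_sq _ ha hxM ha2 hx2

end generic

section special

variable {K : Type*} [Field K] [CharP K 2] {m : ℕ} (hm : ∀ t : K, t ^ 2 ^ (2 * m + 1) = t)

/-- The class group of the pair `(p₁, p₄)` has exponent `2`. -/
theorem lt2_f4_cls1_sq : ∀ x ∈ (f4Cls1 hm).X, x ^ 2 ∈ ⁅(f4Cls1 hm).X, (f4Cls1 hm).X⁆ := by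
  intro x hx
  rw [f4Cls1_X] at hx
  obtain ⟨t, rfl⟩ := (mem_XJ1_fix_iff hm).mp hx
  have e : (xP 33 24 m t) ^ 2 = 1 := by
    rw [sq]
    nth_rewrite 2 [← xP_inv]
    exact mul_inv_cancel _
  rw [e]
  exact one_mem _

include hm in
/-- The commutator of two elements `xS a 0`, `xS c 0`. -/
theorem lt2_f4_xS_comm (a c : K) :
    ⁅(quadPos K).xS m a 0, (quadPos K).xS m c 0⁆ =
      (quadPos K).xS m 0 (f4Th K m a * c + f4Th K m c * a) := by
  rw [commutatorElement_def, xS_inv hm, xS_inv hm, xS_mul hm, xS_mul hm, xS_mul hm]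
  congr 1
  · have h1 := add_self_char2 a
    have h2 := add_self_char2 c
    linear_combination h1 + h2
  · simp only [map_add, zero_add]
    have h1 := add_self_char2 (f4Th K m a * a)
    have h2 := add_self_char2 (f4Th K m c * c)
    have h3 := add_self_char2 (f4Th K m a * c)
    linear_combination h1 + h2 + h3

include hm in
/-- The square of `xS t u`. -/
theorem lt2_f4_xS_sq (t u : K) :
    ((quadPos K).xS m t u) ^ 2 = (quadPos K).xS m 0 (f4Th K m t * t) := by
  rw [sq, xS_mul hm]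
  congr 1
  · exact add_self_char2 t
  · have h1 := add_self_char2 u
    linear_combination h1

end special

section final

variable {K : Type*} [Field K] [Fintype K] [CharP K 2] {m : ℕ}

/-- In the class group of the quadruple, squares are commutators. -/
theorem lt2_f4_cls2_sq (hm1 : 1 ≤ m) (hK : Fintype.card K = 2 ^ (2 * m + 1)) :
    ∀ x ∈ (f4Cls2 (pow_card_two hK)).X, x ^ 2 ∈ ⁅(f4Cls2 (pow_card_two hK)).X, (f4Cls2 (pow_card_two hK)).X⁆ := by
  have hm := pow_card_two hK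
  intro x hx
  rw [f4Cls2_X] at hx ⊢
  obtain ⟨t, u, rfl⟩ := (mem_XJ2_fix_iff hm).mp hx
  rw [lt2_f4_xS_sq hm]
  by_cases ht : t = 0
  · rw [ht, mul_zero, xS_zero hm]
    exact one_mem _
  · have hne : f4Th K m t * t ≠ 0 := by
      rw [f4Th_apply]
      exact mul_ne_zero (pow_ne_zero _ ht) ht
    obtain ⟨v, w, hvw⟩ := lt2_sz_exists_pair m hm1 hK hne
    -- `a = v^(2^(m+1))`, `c = w^(2^(m+1))`
    have hv : f4Th K m (f4Th K (m + 1) v) = v := f4Th_f4Th_succ hm v
    have hw : f4Th K m (f4Th K (m + 1) w) = w := f4Th_f4Th_succ hm w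
    have e : f4Th K m t * t =
        f4Th K m (f4Th K (m + 1) v) * f4Th K (m + 1) w + f4Th K m (f4Th K (m + 1) w) * f4Th K (m + 1) v := by
      rw [hv, hw, hvw, f4Th_apply, f4Th_apply]
      ring
    rw [e, ← lt2_f4_xS_comm hm]
    exact Subgroup.commutator_mem_commutator ((mem_XJ2_fix_iff hm).mpr ⟨_, _, rfl⟩)
      ((mem_XJ2_fix_iff hm).mpr ⟨_, _, rfl⟩)

theorem lt2_f4_altList_mem (hm : ∀ t : K, t ^ 2 ^ (2 * m + 1) = t) (b : Bool) :
    ∀ k, ∀ c ∈ f4AltList hm b k, c = f4Cls1 hm ∨ c = f4Cls2 hm := by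
  intro k
  induction k with
  | zero =>
    intro c hc
    exact absurd hc (List.not_mem_nil)
  | succ k ih =>
    intro c hc
    change c ∈ (if (k % 2 = 0) = !b then f4Cls1 hm else f4Cls2 hm) :: f4AltList hm b k at hc
    rcases List.mem_cons.mp hc with h | h
    · rw [h]
      split_ifs
      · exact Or.inl rfl
      · exact Or.inr rfl
    · exact ih c h

/-- In `U¹ = U ⊓ ²F₄(q)`, squares lie in the derived subgroup (char-2 instance given). -/
theorem lt2_f4_U_sq_aux (hm1 : 1 ≤ m) (hK : Fintype.card K = 2 ^ (2 * m + 1)) :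
    ∀ g ∈ chevF4.posUnipotent K ⊓ twistedF4 K (2 ^ m),
      g ^ 2 ∈ ⁅chevF4.posUnipotent K ⊓ twistedF4 K (2 ^ m),
        chevF4.posUnipotent K ⊓ twistedF4 K (2 ^ m)⁆ := by
  have hm := pow_card_two hK
  have hG := good3_F4.toGood2
  have hw0 : (tabOf chevF4).W0ok ((f4AltList hm false 8).reverse.flatMap FCls.word) := by
    rw [f4AltList_word]; exact f4_altW0 false
  have e : fM good3_F4.toGood2 (fixSub (f4Tau hm)) ((f4AltList hm false 8).reverse.flatMap FCls.word) =
      chevF4.posUnipotent K ⊓ twistedF4 K (2 ^ m) := by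
    rw [(f4_posUnipotent_inf hm).1]
    apply le_antisymm
    · exact inf_le_left
    · intro g hg
      rw [mem_fM]
      refine ⟨hg.1, hg.2, ?_⟩
      rw [← nWordGL_conj_pos_eq_neg good3_F4.toGood2 T0_F4 hw0]
      exact ⟨g, hg.1, rfl⟩
  have key := lt2_f4_fM_sq good3_F4.toGood2 T0_F4 T8_F4 (f4AltList hm false 8)
    (f4AltList_pos hm false 8 le_rfl) (by
      intro c hc
      rcases lt2_f4_altList_mem hm false 8 c hc with rfl | rfl
      · exact lt2_f4_cls1_sq hm
      · exact lt2_f4_cls2_sq hm1 hK)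
  rw [e] at key
  exact key

end final

/-- In `U¹ = U ⊓ ²F₄(q)`, `q = 2^(2m+1) ≥ 8`, squares lie in the derived subgroup. -/
theorem lt2_f4_U_sq {K : Type*} [Field K] [Fintype K] (m : ℕ) (hm : 1 ≤ m)
    (hK : Fintype.card K = 2 ^ (2 * m + 1)) :
    ∀ g ∈ chevF4.posUnipotent K ⊓ twistedF4 K (2 ^ m),
      g ^ 2 ∈ ⁅chevF4.posUnipotent K ⊓ twistedF4 K (2 ^ m),
        chevF4.posUnipotent K ⊓ twistedF4 K (2 ^ m)⁆ := by
  have := charP_two_of_card (by omega) hK
  exact lt2_f4_U_sq_aux hm hK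

end Cfsg.Agent.LT2
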