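import Mathlib

/-!
# LT2 (S4625 groundwork): generic glue for "`x ^ 2 ∈ P'` for all `x` in a Sylow `2`-subgroup `P`"

* `lt2_sq_of_gen`, `lt2_sq_of_gen_sub`: a group generated by elements whose squares are in the derived
  subgroup has all squares in the derived subgroup;
* `lt2_of_sylow`: the property for one Sylow `2`-subgroup gives it for all (conjugacy);
* `lt2_of_surjective`, `lt2_of_iso`, `lt2_of_quotient`: transfer along surjective homs;
* `lt2_template`: from the `⁅P, P⁆`-form to the `commutator ↥P`-form of the frozen statements.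
-/

set_option autoImplicit false

namespace Cfsg.Agent.LT2

open Subgroup
open scoped Pointwise

/-- A group generated by a set of elements with squares in the derived subgroup has all squares in
the derived subgroup. -/
theorem lt2_sq_of_gen {U : Type*} [Group U] (X : Set U) (hgen : Subgroup.closure X = ⊤)
    (hX : ∀ x ∈ X, x ^ 2 ∈ commutator U) : ∀ y : U, y ^ 2 ∈ commutator U := by
  let f : U →* Abelianization U := Abelianization.of
  let sq : Abelianization U →* Abelianization U := powMonoidHom 2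
  have hker : ∀ y : U, y ^ 2 ∈ commutator U ↔ y ∈ (sq.comp f).ker := by
    intro y
    rw [MonoidHom.mem_ker, MonoidHom.comp_apply]
    show _ ↔ (f y) ^ 2 = 1
    rw [← map_pow, ← MonoidHom.mem_ker, Abelianization.ker_of]
  intro y
  rw [hker]
  have hle : Subgroup.closure X ≤ (sq.comp f).ker := by
    rw [Subgroup.closure_le]
    intro x hx
    exact (hker x).mp (hX x hx)
  rw [hgen] at hle
  exact hle (Subgroup.mem_top y)

/-- Subgroup version: `U = closure X` inside `G`, squares of the generators in `⁅U, U⁆`. -/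
theorem lt2_sq_of_gen_sub {G : Type*} [Group G] (U : Subgroup G) (X : Set G)
    (hU : U = Subgroup.closure X) (hX : ∀ x ∈ X, x ^ 2 ∈ ⁅U, U⁆) :
    ∀ y ∈ U, y ^ 2 ∈ ⁅U, U⁆ := by
  subst hU
  intro y hy
  have hgen : Subgroup.closure (((↑) : Subgroup.closure X → G) ⁻¹' X) = ⊤ :=
    Subgroup.closure_closure_coe_preimage
  have hX' : ∀ x ∈ (((↑) : Subgroup.closure X → G) ⁻¹' X), x ^ 2 ∈ commutator (Subgroup.closure X) := by
    intro x hx
    have h1 : ((x : G)) ^ 2 ∈ ⁅Subgroup.closure X, Subgroup.closure X⁆ := hX _ hx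
    rw [← Subgroup.map_subtype_commutator] at h1
    obtain ⟨z, hz, hzx⟩ := h1
    have : z = x ^ 2 := Subtype.ext (by simpa using hzx)
    rw [← this]
    exact hz
  have h2 := lt2_sq_of_gen _ hgen hX' ⟨y, hy⟩
  rw [← Subgroup.map_subtype_commutator]
  exact ⟨_, h2, rfl⟩

/-- Conjugation invariance. -/
theorem lt2_conj {G : Type*} [Group G] (H : Subgroup G) (g : G)
    (h : ∀ y ∈ H, y ^ 2 ∈ ⁅H, H⁆) :
    ∀ x ∈ MulAut.conj g • H, x ^ 2 ∈ ⁅MulAut.conj g • H, MulAut.conj g • H⁆ := by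
  intro x hx
  have e : MulAut.conj g • H = H.map (MulAut.conj g).toMonoidHom := rfl
  rw [e, ← Subgroup.map_commutator]
  rw [e] at hx
  obtain ⟨y, hy, rfl⟩ := hx
  exact ⟨y ^ 2, h y hy, map_pow _ _ _⟩

/-- The property for one Sylow `2`-subgroup gives it for all of them. -/
theorem lt2_of_sylow {G₀ : Type*} [Group G₀] [Finite G₀] (P₀ : Sylow 2 G₀)
    (h : ∀ y ∈ (P₀ : Subgroup G₀), y ^ 2 ∈ ⁅(P₀ : Subgroup G₀), (P₀ : Subgroup G₀)⁆) :
    ∀ P : Sylow 2 G₀, ∀ y ∈ (P : Subgroup G₀),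
      y ^ 2 ∈ ⁅(P : Subgroup G₀), (P : Subgroup G₀)⁆ := by
  have : Fact (Nat.Prime 2) := ⟨Nat.prime_two⟩
  intro P
  obtain ⟨g, hg⟩ := MulAction.exists_smul_eq G₀ P₀ P
  have hP : (P : Subgroup G₀) = MulAut.conj g • (P₀ : Subgroup G₀) := by
    rw [← hg, Sylow.smul_def]
    rfl
  rw [hP]
  exact lt2_conj _ g h

/-- Transfer along a surjective homomorphism (Sylow subgroups of the image are images of Sylow
subgroups). -/
theorem lt2_of_surjective {G₀ G' : Type*} [Group G₀] [Finite G₀] [Group G'] (f : G₀ →* G')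
    (hf : Function.Surjective f)
    (h : ∀ P : Sylow 2 G₀, ∀ y ∈ (P : Subgroup G₀),
      y ^ 2 ∈ ⁅(P : Subgroup G₀), (P : Subgroup G₀)⁆) :
    ∀ Q : Sylow 2 G', ∀ y ∈ (Q : Subgroup G'),
      y ^ 2 ∈ ⁅(Q : Subgroup G'), (Q : Subgroup G')⁆ := by
  have : Fact (Nat.Prime 2) := ⟨Nat.prime_two⟩
  intro Q y hy
  obtain ⟨P, rfl⟩ := Sylow.mapSurjective_surjective hf 2 Q
  rw [Sylow.coe_mapSurjective] at hy ⊢
  obtain ⟨x, hx, rfl⟩ := hy
  rw [← Subgroup.map_commutator]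
  exact ⟨x ^ 2, h P x hx, map_pow _ _ _⟩

/-- From the `⁅P, P⁆`-form to the `commutator ↥P`-form used by the frozen statements. -/
theorem lt2_template {G : Type*} [Group G] (P : Subgroup G)
    (h : ∀ y ∈ P, y ^ 2 ∈ ⁅P, P⁆) : ∀ x : P, x ^ 2 ∈ commutator P := by
  intro x
  have h1 := h x x.2
  rw [← Subgroup.map_subtype_commutator] at h1
  obtain ⟨z, hz, hzx⟩ := h1
  have : z = x ^ 2 := Subtype.ext (by simpa using hzx)
  rw [← this]
  exact hz

/-- Transfer along an isomorphism, ending in the template's form. -/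
theorem lt2_of_iso {G G₀ : Type*} [Group G] [Group G₀] [Finite G₀] (e : G ≃* G₀)
    (h : ∀ P : Sylow 2 G₀, ∀ y ∈ (P : Subgroup G₀),
      y ^ 2 ∈ ⁅(P : Subgroup G₀), (P : Subgroup G₀)⁆)
    (P : Sylow 2 G) : ∀ x : (P : Subgroup G), x ^ 2 ∈ commutator (P : Subgroup G) :=
  lt2_template _ (lt2_of_surjective e.symm.toMonoidHom e.symm.surjective h P)

/-- Transfer to a quotient. -/
theorem lt2_of_quotient {G₀ : Type*} [Group G₀] [Finite G₀] (Z : Subgroup G₀) [Z.Normal]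
    (h : ∀ P : Sylow 2 G₀, ∀ y ∈ (P : Subgroup G₀),
      y ^ 2 ∈ ⁅(P : Subgroup G₀), (P : Subgroup G₀)⁆) :
    ∀ Q : Sylow 2 (G₀ ⧸ Z), ∀ y ∈ (Q : Subgroup (G₀ ⧸ Z)),
      y ^ 2 ∈ ⁅(Q : Subgroup (G₀ ⧸ Z)), (Q : Subgroup (G₀ ⧸ Z))⁆ :=
  lt2_of_surjective (QuotientGroup.mk' Z) (QuotientGroup.mk'_surjective Z) h

/-- Packaged: one Sylow `2`-subgroup `U = closure X` of `G₀` with squares of the generators in
`⁅U, U⁆` gives the property for every Sylow `2`-subgroup of `G₀`. -/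
theorem lt2_of_generators {G₀ : Type*} [Group G₀] [Finite G₀] (P₀ : Sylow 2 G₀) (X : Set G₀)
    (hU : (P₀ : Subgroup G₀) = Subgroup.closure X)
    (hX : ∀ x ∈ X, x ^ 2 ∈ ⁅(P₀ : Subgroup G₀), (P₀ : Subgroup G₀)⁆) :
    ∀ P : Sylow 2 G₀, ∀ y ∈ (P : Subgroup G₀),
      y ^ 2 ∈ ⁅(P : Subgroup G₀), (P : Subgroup G₀)⁆ :=
  lt2_of_sylow P₀ (lt2_sq_of_gen_sub _ X hU hX)

end Cfsg.Agent.LT2
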