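import Mathlib
import Cfsg.Agent.LT2.Gen
import Cfsg.Agent.Helper8.Sq46B

set_option autoImplicit false

/-!
# LT2, families `PΩ⁺_{2m}(q)` and `PΩ⁻_{2m}(q)`, `q` even (helper8)
-/

namespace Cfsg.Agent.LT2

open Cfsg

/-- from one subgroup of `2`-power order and odd index to all Sylow `2`-subgroups. -/
theorem lt2_op_of_exists {G₀ : Type*} [Group G₀] [Finite G₀]
    (h : ∃ U : Subgroup G₀, IsPGroup 2 ↥U ∧ ¬ 2 ∣ U.index ∧ ∀ x ∈ U, x * x ∈ ⁅U, U⁆) :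
    ∀ P : Sylow 2 G₀, ∀ y ∈ (P : Subgroup G₀),
      y ^ 2 ∈ ⁅(P : Subgroup G₀), (P : Subgroup G₀)⁆ := by
  obtain ⟨U, hU, hidx, hsq⟩ := h
  have : Fact (Nat.Prime 2) := ⟨Nat.prime_two⟩
  apply lt2_of_sylow (hU.toSylow hidx)
  intro y hy
  rw [pow_two]
  exact hsq y hy

/-- **`PΩ⁺_{2m}(q)`, `q` even, `m ≥ 4`.** -/
theorem lt2_op {F : Type*} [Field F] [Fintype F] [CharP F 2] (m : ℕ) (hm : 4 ≤ m) :
    ∀ P : Sylow 2 (POmega F (quadFormPlus m F)),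
      ∀ y ∈ (P : Subgroup (POmega F (quadFormPlus m F))),
        y ^ 2 ∈ ⁅(P : Subgroup (POmega F (quadFormPlus m F))),
          (P : Subgroup (POmega F (quadFormPlus m F)))⁆ := by
  obtain ⟨k, rfl⟩ : ∃ k, m = k + 2 := ⟨m - 2, by omega⟩
  exact lt2_of_quotient (Subgroup.center ↥(Omega F (quadFormPlus (k + 2) F)))
    (lt2_op_of_exists (Cfsg.Agent.Helper8.Sq46.sq46_Omega_plus F k (by omega)))

/-- **`PΩ⁻_{2m}(q)`, `q` even, `m ≥ 4`.** -/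
theorem lt2_om {F : Type*} [Field F] [Fintype F] [CharP F 2] (m : ℕ) (a b : F) (hm : 4 ≤ m)
    (hab : ∀ z₁ z₂ : F, z₁ ^ 2 + a * z₁ * z₂ + b * z₂ ^ 2 = 0 → z₁ = 0 ∧ z₂ = 0) :
    ∀ P : Sylow 2 (POmega F (quadFormMinus (m - 1) F a b)),
      ∀ y ∈ (P : Subgroup (POmega F (quadFormMinus (m - 1) F a b))),
        y ^ 2 ∈ ⁅(P : Subgroup (POmega F (quadFormMinus (m - 1) F a b))),
          (P : Subgroup (POmega F (quadFormMinus (m - 1) F a b)))⁆ := by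
  obtain ⟨k, rfl⟩ : ∃ k, m = k + 2 := ⟨m - 2, by omega⟩
  have e1 : k + 2 - 1 = k + 1 := by omega
  rw [e1]
  exact lt2_of_quotient (Subgroup.center ↥(Omega F (quadFormMinus (k + 1) F a b)))
    (lt2_op_of_exists (Cfsg.Agent.Helper8.Sq46.sq46_Omega_minus F a b k (by omega) hab))

end Cfsg.Agent.LT2
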