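import Mathlib
import Cfsg.Agent.Lead.PSLnFusA

set_option autoImplicit false

/-!
S4625 swarm, package (b): a Sylow `2`-subgroup `P` of `PSL_n(F)`, `F` finite of characteristic `2`,
has all squares in `⁅P, P⁆`.  (Unitriangular group, generated by the involutions `1 + c E_{ij}`.)
-/

namespace Cfsg.Agent.LT2

open Matrix Cfsg.Agent.Helper8.AutSLn Cfsg.Agent.Lead.PSLnFus
open scoped commutatorElement

/-- A subgroup generated by elements whose squares lie in its commutator subgroup has all its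
squares there. -/
theorem lt2_psl_sq_of_gen {G : Type*} [Group G] (U : Subgroup G) (X : Set G)
    (hU : U = Subgroup.closure X) (hX : ∀ x ∈ X, x ^ 2 ∈ ⁅U, U⁆) : ∀ y ∈ U, y ^ 2 ∈ ⁅U, U⁆ := by
  have key : ∀ y ∈ Subgroup.closure X, y ∈ U ∧ y ^ 2 ∈ ⁅U, U⁆ := by
    intro y hy
    induction hy using Subgroup.closure_induction with
    | mem x hx => exact ⟨hU ▸ Subgroup.subset_closure hx, hX x hx⟩
    | one => exact ⟨U.one_mem, by rw [one_pow]; exact Subgroup.one_mem _⟩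
    | mul a b _ _ iha ihb =>
      refine ⟨U.mul_mem iha.1 ihb.1, ?_⟩
      have e : (a * b) ^ 2 = a ^ 2 * ⁅a⁻¹, b⁆ * b ^ 2 := by
        rw [commutatorElement_def, pow_two, pow_two, pow_two]
        group
      rw [e]
      exact Subgroup.mul_mem _ (Subgroup.mul_mem _ iha.2
        (Subgroup.commutator_mem_commutator (U.inv_mem iha.1) ihb.1)) ihb.2
    | inv a _ iha =>
      refine ⟨U.inv_mem iha.1, ?_⟩
      rw [inv_pow]
      exact Subgroup.inv_mem _ iha.2
  intro y hy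
  exact (key y (hU ▸ hy)).2

/-- The property passes to images under homomorphisms. -/
theorem lt2_psl_map {G G' : Type*} [Group G] [Group G'] (f : G →* G') (H : Subgroup G)
    (h : ∀ y ∈ H, y ^ 2 ∈ ⁅H, H⁆) : ∀ y ∈ H.map f, y ^ 2 ∈ ⁅H.map f, H.map f⁆ := by
  rintro _ ⟨x, hx, rfl⟩
  rw [← Subgroup.map_commutator, ← map_pow]
  exact Subgroup.mem_map_of_mem f (h x hx)

/-- If one Sylow `2`-subgroup has the property, all have. -/
theorem lt2_psl_all_sylow {G : Type*} [Group G] [Finite G] (P₀ : Sylow 2 G)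
    (h : ∀ y ∈ (P₀ : Subgroup G), y ^ 2 ∈ ⁅(P₀ : Subgroup G), (P₀ : Subgroup G)⁆) (P : Sylow 2 G) :
    ∀ y ∈ (P : Subgroup G), y ^ 2 ∈ ⁅(P : Subgroup G), (P : Subgroup G)⁆ := by
  have : Fact (Nat.Prime 2) := ⟨Nat.prime_two⟩
  obtain ⟨g, hg⟩ := MulAction.exists_smul_eq G P₀ P
  have e : (P : Subgroup G) = (P₀ : Subgroup G).map (MulAut.conj g).toMonoidHom := by
    rw [← hg]
    rfl
  rw [e]
  exact lt2_psl_map _ _ h

/-- The property for all Sylow `2`-subgroups passes to quotients. -/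
theorem lt2_psl_surj {G G' : Type*} [Group G] [Finite G] [Group G'] (f : G →* G')
    (hf : Function.Surjective f)
    (h : ∀ P : Sylow 2 G, ∀ y ∈ (P : Subgroup G), y ^ 2 ∈ ⁅(P : Subgroup G), (P : Subgroup G)⁆)
    (P' : Sylow 2 G') :
    ∀ y ∈ (P' : Subgroup G'), y ^ 2 ∈ ⁅(P' : Subgroup G'), (P' : Subgroup G')⁆ := by
  have : Fact (Nat.Prime 2) := ⟨Nat.prime_two⟩
  obtain ⟨P, rfl⟩ := Sylow.mapSurjective_surjective hf 2 P'
  rw [Sylow.coe_mapSurjective]
  exact lt2_psl_map f _ (h P)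

variable {F : Type*} [Field F]

/-- squares in the unitriangular group of `SL_{n+3}(F)`, characteristic `2` -/
theorem lt2_psl_UT_big [CharP F 2] (n : ℕ) :
    ∀ y ∈ UT F (n + 3), y ^ 2 ∈ ⁅UT F (n + 3), UT F (n + 3)⁆ := by
  apply lt2_psl_sq_of_gen (UT F (n + 3))
    {g | ∃ (i j : Fin (n + 3)) (hij : i < j) (c : F), g = xr i j hij.ne' c}
  · exact le_antisymm UT_le_posRoots posRoots_le_UT
  · rintro _ ⟨i, j, hij, c, rfl⟩
    rw [pow_two, xr_add, CharTwo.add_self_eq_zero, xr_zero]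
    exact Subgroup.one_mem _

/-- squares in the unitriangular group of `SL_2(F)`, characteristic `2` -/
theorem lt2_psl_UT_two [CharP F 2] :
    ∀ y ∈ UT F 2, y ^ 2 ∈ ⁅UT F 2, UT F 2⁆ := by
  intro y hy
  have h1 : y ^ 2 = 1 := by
    obtain ⟨hup, hd⟩ := hy
    have h10 : (y : Matrix (Fin 2) (Fin 2) F) 1 0 = 0 := hup (by decide)
    have h00 := hd 0
    have h11 := hd 1
    apply Subtype.ext
    rw [pow_two, Matrix.SpecialLinearGroup.coe_mul, Matrix.SpecialLinearGroup.coe_one]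
    ext i j
    fin_cases i <;> fin_cases j <;>
      simp [Matrix.mul_apply, Fin.sum_univ_two, h10, h00, h11, CharTwo.add_self_eq_zero]
  rw [h1]
  exact Subgroup.one_mem _

theorem lt2_psl_UT [CharP F 2] (k : ℕ) (hk : 2 ≤ k) :
    ∀ y ∈ UT F k, y ^ 2 ∈ ⁅UT F k, UT F k⁆ := by
  rcases Nat.lt_or_ge k 3 with h | h
  · obtain rfl : k = 2 := by omega
    exact lt2_psl_UT_two
  · obtain ⟨n, rfl⟩ : ∃ n, k = n + 3 := ⟨k - 3, by omega⟩
    exact lt2_psl_UT_big n

/-- **`SL_k(F)`**: all Sylow `2`-subgroups have their squares in their commutator subgroup. -/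
theorem lt2_sl [Fintype F] [CharP F 2] (k : ℕ) (hk : 2 ≤ k)
    (P : Sylow 2 (SpecialLinearGroup (Fin k) F)) :
    ∀ y ∈ (P : Subgroup (SpecialLinearGroup (Fin k) F)),
      y ^ 2 ∈ ⁅(P : Subgroup (SpecialLinearGroup (Fin k) F)),
        (P : Subgroup (SpecialLinearGroup (Fin k) F))⁆ := by
  have : Fact (Nat.Prime 2) := ⟨Nat.prime_two⟩
  exact lt2_psl_all_sylow ((isPGroup_UT (F := F) (k := k) 2).toSylow (not_dvd_index_UT 2 k))
    (lt2_psl_UT k hk) P

/-- **`PSL_k(F)`**: all Sylow `2`-subgroups have their squares in their commutator subgroup. -/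
theorem lt2_psl [Fintype F] [CharP F 2] (k : ℕ) (hk : 2 ≤ k)
    (P : Sylow 2 (ProjectiveSpecialLinearGroup (Fin k) F)) :
    ∀ y ∈ (P : Subgroup (ProjectiveSpecialLinearGroup (Fin k) F)),
      y ^ 2 ∈ ⁅(P : Subgroup (ProjectiveSpecialLinearGroup (Fin k) F)),
        (P : Subgroup (ProjectiveSpecialLinearGroup (Fin k) F))⁆ :=
  lt2_psl_surj (QuotientGroup.mk' (Subgroup.center (SpecialLinearGroup (Fin k) F)))
    (QuotientGroup.mk'_surjective _) (lt2_sl k hk) P

end Cfsg.Agent.LT2
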