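import Mathlib
import Cfsg.Agent.Helper1.SUJm

set_option autoImplicit false

/-!
S4625, family PSU: in characteristic 2 every element of the upper unitriangular subgroup `Usub n K`
of the unitary group of the antidiagonal hermitian form has its square in the derived subgroup.
Part (a): index bookkeeping and the Heisenberg step.
-/

namespace Cfsg.Agent.LT2

open Matrix Cfsg.Agent.Helper1.SUJ

variable {K : Type*} [Field K]

/-- The middle index map `Fin d → Fin (d+2)`, `a ↦ a+1`. -/
def lt2_psu_f (d : ℕ) : Fin d → Fin (d + 2) := fun a => a.castSucc.succ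

theorem lt2_psu_f_val (d : ℕ) (a : Fin d) : ((lt2_psu_f d a : Fin (d + 2)) : ℕ) = (a : ℕ) + 1 := by
  simp [lt2_psu_f]

theorem lt2_psu_f_strictMono (d : ℕ) : StrictMono (lt2_psu_f d) := by
  intro a b h
  rw [Fin.lt_def, lt2_psu_f_val, lt2_psu_f_val]
  have := Fin.lt_def.mp h
  omega

theorem lt2_psu_f_inj (d : ℕ) : Function.Injective (lt2_psu_f d) := (lt2_psu_f_strictMono d).injective

theorem lt2_psu_f_rev (d : ℕ) (a : Fin d) : lt2_psu_f d a.rev = (lt2_psu_f d a).rev := by
  apply Fin.ext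
  rw [lt2_psu_f_val, Fin.val_rev, Fin.val_rev, lt2_psu_f_val]
  have := a.isLt
  omega

theorem lt2_psu_f_ne_zero (d : ℕ) (a : Fin d) : lt2_psu_f d a ≠ 0 := by
  intro h
  have := congrArg Fin.val h
  rw [lt2_psu_f_val] at this
  simp at this

theorem lt2_psu_f_ne_last (d : ℕ) (a : Fin d) : lt2_psu_f d a ≠ Fin.last (d + 1) := by
  intro h
  have := congrArg Fin.val h
  rw [lt2_psu_f_val, Fin.val_last] at this
  have := a.isLt
  omega

theorem lt2_psu_exists_f (d : ℕ) (i : Fin (d + 2)) (h0 : i ≠ 0) (hl : i ≠ Fin.last (d + 1)) :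
    ∃ a : Fin d, lt2_psu_f d a = i := by
  have h0' : (i : ℕ) ≠ 0 := fun e => h0 (Fin.ext e)
  have hl' : (i : ℕ) ≠ d + 1 := fun e => hl (Fin.ext (by rw [Fin.val_last]; exact e))
  have hi := i.isLt
  refine ⟨⟨(i : ℕ) - 1, by omega⟩, ?_⟩
  apply Fin.ext
  rw [lt2_psu_f_val]
  simp only
  omega

theorem lt2_psu_zero_ne_last (d : ℕ) : (0 : Fin (d + 2)) ≠ Fin.last (d + 1) := by
  intro h
  have := congrArg Fin.val h
  rw [Fin.val_last] at this
  simp at this

/-- Splitting a sum over `Fin (d+2)` into the two ends and the middle. -/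
theorem lt2_psu_sum {M : Type*} [AddCommMonoid M] (d : ℕ) (F : Fin (d + 2) → M) :
    ∑ k, F k = F 0 + ∑ c, F (lt2_psu_f d c) + F (Fin.last (d + 1)) := by
  rw [Fin.sum_univ_succ, Fin.sum_univ_castSucc, ← add_assoc]
  rfl


/-! ### The nilpotent part `N = q - 1` of an element with trivial middle block -/

section heis

variable {d : ℕ} (N : Matrix (Fin (d + 2)) (Fin (d + 2)) K)

/-- The shape of `N = q - 1`: column `0` vanishes, row `last` vanishes, and so does everything
outside row `0` and column `last`. -/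
structure lt2_psu_Shape : Prop where
  col : ∀ i, N i 0 = 0
  row : ∀ j, N (Fin.last (d + 1)) j = 0
  mid : ∀ i j, i ≠ 0 → j ≠ Fin.last (d + 1) → N i j = 0

variable {N}

theorem lt2_psu_NvN (hN : lt2_psu_Shape N) (v : Fin (d + 2) → K)
    (hv : ∀ k, k ≠ 0 → k ≠ Fin.last (d + 1) → v k = 1) :
    N * diagonal v * N = N * N := by
  ext i j
  rw [Matrix.mul_apply, Matrix.mul_apply]
  apply Finset.sum_congr rfl
  intro k _
  rw [Matrix.mul_diagonal]
  by_cases h0 : k = 0
  · rw [h0, hN.col, zero_mul, zero_mul]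
  by_cases hl : k = Fin.last (d + 1)
  · rw [hl, hN.row, mul_zero, mul_zero]
  rw [hv k h0 hl, mul_one]

theorem lt2_psu_NN_apply (hN : lt2_psu_Shape N) (i j : Fin (d + 2))
    (h : ¬ (i = 0 ∧ j = Fin.last (d + 1))) : (N * N) i j = 0 := by
  rw [Matrix.mul_apply]
  apply Finset.sum_eq_zero
  intro k _
  by_cases hi : i = 0
  · have hj : j ≠ Fin.last (d + 1) := fun e => h ⟨hi, e⟩
    by_cases hk : k = 0
    · rw [hk, hN.col, zero_mul]
    · rw [hN.mid k j hk hj, mul_zero]
  · by_cases hk : k = Fin.last (d + 1)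
    · rw [hk, hN.row, mul_zero]
    · rw [hN.mid i k hi hk, zero_mul]

theorem lt2_psu_NN_mul_diag (hN : lt2_psu_Shape N) (v : Fin (d + 2) → K) :
    N * N * diagonal v = v (Fin.last (d + 1)) • (N * N) := by
  ext i j
  rw [Matrix.mul_diagonal, Matrix.smul_apply, smul_eq_mul]
  by_cases hj : j = Fin.last (d + 1)
  · rw [hj, mul_comm]
  · rw [lt2_psu_NN_apply hN i j (fun e => hj e.2), zero_mul, mul_zero]

theorem lt2_psu_diag_mul_NN (hN : lt2_psu_Shape N) (v : Fin (d + 2) → K) :
    diagonal v * (N * N) = v 0 • (N * N) := by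
  ext i j
  rw [Matrix.diagonal_mul, Matrix.smul_apply, smul_eq_mul]
  by_cases hi : i = 0
  · rw [hi]
  · rw [lt2_psu_NN_apply hN i j (fun e => hi e.1), mul_zero, mul_zero]

theorem lt2_psu_NN_mul (hN : lt2_psu_Shape N) (M : Matrix (Fin (d + 2)) (Fin (d + 2)) K)
    (hM : ∀ j, M (Fin.last (d + 1)) j = 0) : N * N * M = 0 := by
  ext i j
  rw [Matrix.mul_apply, Matrix.zero_apply]
  apply Finset.sum_eq_zero
  intro k _
  by_cases hk : k = Fin.last (d + 1)
  · rw [hk, hM, mul_zero]
  · rw [lt2_psu_NN_apply hN i k (fun e => hk e.2), zero_mul]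

/-- The abstract ring identity behind the Heisenberg step. -/
theorem lt2_psu_ring {R : Type*} [Ring R] (N N' : R) (h2 : N + N = 0)
    (hAB : N * N' = N' * N + N * N) (hCN : N * N * N = 0) (hCN' : N * N * N' = 0) :
    (1 + N) * (1 + N') = ((1 + N) * (1 + N)) * ((1 + N') * (1 + N)) := by
  have e1 : (1 + N) * (1 + N) = 1 + N * N := by
    have : (1 + N) * (1 + N) = 1 + (N + N) + N * N := by noncomm_ring
    rw [this, h2, add_zero]
  have e2 : (1 + N) * (1 + N') = 1 + N + N' + (N' * N + N * N) := by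
    rw [← hAB]; noncomm_ring
  have e3 : (1 + N * N) * ((1 + N') * (1 + N)) =
      1 + N + N' + (N' * N + N * N) + (N * N * N + N * N * N' + N * N * N' * N) := by
    noncomm_ring
  rw [e1, e2, e3, hCN, hCN', zero_mul, add_zero, add_zero, add_zero]

end heis

end Cfsg.Agent.LT2
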