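import Mathlib
import Cfsg.Agent.LT2.PSUa

set_option autoImplicit false

/-!
S4625, family PSU, part (b): the Heisenberg step in the group `UG (d+2) K`.
-/

namespace Cfsg.Agent.LT2

open Matrix Cfsg.Agent.Helper1.SUJ
open scoped commutatorElement

variable {K : Type*} [Field K] [StarRing K]

theorem lt2_psu_dag_diagonal {n : ℕ} (v : Fin n → K) :
    dag (diagonal v) = diagonal (fun i => star (v i.rev)) := by
  ext i j
  rw [dag_apply, diagonal_apply, diagonal_apply]
  by_cases h : i = j
  · subst h
    rw [if_pos rfl, if_pos rfl]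
  · rw [if_neg h, if_neg (fun e => h (Fin.rev_injective e.symm)), star_zero]

/-- Conjugation by a unitary diagonal matrix (not necessarily of determinant one). -/
def lt2_psu_conj {n : ℕ} (T T' : Matrix (Fin n) (Fin n) K) (h1 : T * T' = 1) (h2 : T' * T = 1)
    (hd : dag T = T') (hd' : dag T' = T) (q : UG n K) : UG n K :=
  ⟨T * q.val * T', by
    rw [dag_mul, dag_mul, hd, hd']
    calc T * (dag q.val * T') * (T * q.val * T')
        = T * (dag q.val * (T' * T) * q.val) * T' := by simp only [Matrix.mul_assoc]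
      _ = 1 := by rw [h2, Matrix.mul_one, q.unit, Matrix.mul_one, h1],
    by rw [det_mul, det_mul, mul_right_comm, ← det_mul, h1, det_one, one_mul, q.det]⟩

theorem lt2_psu_conj_val {n : ℕ} (T T' : Matrix (Fin n) (Fin n) K) (h1 : T * T' = 1)
    (h2 : T' * T = 1) (hd : dag T = T') (hd' : dag T' = T) (q : UG n K) :
    (lt2_psu_conj T T' h1 h2 hd hd' q).val = T * q.val * T' := rfl

variable {d : ℕ}

theorem lt2_psu_shape {q : UG (d + 2) K} (hq : q ∈ Usub (d + 2) K)
    (hmid : ∀ a b, q.val (lt2_psu_f d a) (lt2_psu_f d b) = (1 : Matrix (Fin d) (Fin d) K) a b) :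
    lt2_psu_Shape (q.val - 1) := by
  obtain ⟨hup, hdiag⟩ := mem_Usub.mp hq
  have hcol : ∀ i, (q.val - 1) i 0 = 0 := by
    intro i
    rw [Matrix.sub_apply]
    by_cases hi : i = 0
    · rw [hi, hdiag, one_apply_eq, sub_self]
    · have hlt : (0 : Fin (d + 2)) < i := Fin.pos_of_ne_zero hi
      rw [hup hlt, one_apply_ne hi, sub_self]
  have hrow : ∀ j, (q.val - 1) (Fin.last (d + 1)) j = 0 := by
    intro j
    rw [Matrix.sub_apply]
    by_cases hj : j = Fin.last (d + 1)
    · rw [hj, hdiag, one_apply_eq, sub_self]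
    · have hlt : j < Fin.last (d + 1) := Fin.lt_last_iff_ne_last.mpr hj
      have h0 : q.val (Fin.last (d + 1)) j = 0 := hup hlt
      rw [h0, one_apply_ne (Ne.symm hj), sub_self]
  refine ⟨hcol, hrow, ?_⟩
  intro i j hi hj
  by_cases hil : i = Fin.last (d + 1)
  · rw [hil]; exact hrow j
  by_cases hj0 : j = 0
  · rw [hj0]; exact hcol i
  obtain ⟨a, rfl⟩ := lt2_psu_exists_f d i hi hil
  obtain ⟨b, rfl⟩ := lt2_psu_exists_f d j hj0 hj
  rw [Matrix.sub_apply, hmid, one_apply, one_apply]
  by_cases hab : a = b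
  · rw [if_pos hab, if_pos (by rw [hab]), sub_self]
  · rw [if_neg hab, if_neg (fun e => hab (lt2_psu_f_inj d e)), sub_self]

/-- The Heisenberg step: an element of `Usub` with trivial middle block has its square in the
derived subgroup (characteristic 2, `lam + star lam = 1`). -/
theorem lt2_psu_heis [CharP K 2] (lam : K) (hlam : lam + star lam = 1) {q : UG (d + 2) K}
    (hq : q ∈ Usub (d + 2) K)
    (hmid : ∀ a b, q.val (lt2_psu_f d a) (lt2_psu_f d b) = (1 : Matrix (Fin d) (Fin d) K) a b) :
    q * q ∈ ⁅Usub (d + 2) K, Usub (d + 2) K⁆ := by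
  have hzl := lt2_psu_zero_ne_last d
  have hlam0 : lam ≠ 0 := by
    rintro rfl
    rw [star_zero, add_zero] at hlam
    exact zero_ne_one hlam
  have hs0 : star lam ≠ 0 := by
    intro h
    apply hlam0
    have := congrArg star h
    rwa [star_star, star_zero] at this
  have hstar : star lam = lam + 1 := by
    have h1 : star lam = 1 - lam := eq_sub_of_add_eq' hlam
    rw [h1, sub_eq_add_neg, CharTwo.neg_eq, add_comm]
  set l : Fin (d + 2) := Fin.last (d + 1) with hl
  let t : Fin (d + 2) → K := fun i => if i = 0 then lam else if i = l then (star lam)⁻¹ else 1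
  let t' : Fin (d + 2) → K := fun i => if i = 0 then lam⁻¹ else if i = l then star lam else 1
  have ht0 : t 0 = lam := if_pos rfl
  have ht'0 : t' 0 = lam⁻¹ := if_pos rfl
  have htl : t l = (star lam)⁻¹ := by
    change (if l = 0 then lam else if l = l then (star lam)⁻¹ else 1) = _
    rw [if_neg (Ne.symm hzl), if_pos rfl]
  have ht'l : t' l = star lam := by
    change (if l = 0 then lam⁻¹ else if l = l then star lam else 1) = _
    rw [if_neg (Ne.symm hzl), if_pos rfl]
  have htm : ∀ k, k ≠ 0 → k ≠ l → t k = 1 := by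
    intro k h0 h1
    change (if k = 0 then lam else if k = l then (star lam)⁻¹ else 1) = _
    rw [if_neg h0, if_neg h1]
  have ht'm : ∀ k, k ≠ 0 → k ≠ l → t' k = 1 := by
    intro k h0 h1
    change (if k = 0 then lam⁻¹ else if k = l then star lam else 1) = _
    rw [if_neg h0, if_neg h1]
  have htt' : ∀ i, t i * t' i = 1 := by
    intro i
    by_cases h0 : i = 0
    · rw [h0, ht0, ht'0, mul_inv_cancel₀ hlam0]
    by_cases h1 : i = l
    · rw [h1, htl, ht'l, inv_mul_cancel₀ hs0]
    rw [htm i h0 h1, ht'm i h0 h1, mul_one]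
  have hT : diagonal t * diagonal t' = 1 := by
    rw [diagonal_mul_diagonal, ← diagonal_one]
    congr 1
    funext i
    exact htt' i
  have hT' : diagonal t' * diagonal t = 1 := by
    rw [diagonal_mul_diagonal, ← diagonal_one]
    congr 1
    funext i
    rw [mul_comm]
    exact htt' i
  have hrev0 : (0 : Fin (d + 2)).rev = l := Fin.rev_zero (d + 1)
  have hrevl : l.rev = 0 := Fin.rev_last _
  have hrevm : ∀ i : Fin (d + 2), i ≠ 0 → i ≠ l → i.rev ≠ 0 ∧ i.rev ≠ l := by
    intro i h0 h1
    constructor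
    · intro e
      apply h1
      rw [← Fin.rev_rev i, e, hrev0]
    · intro e
      apply h0
      rw [← Fin.rev_rev i, e, hrevl]
  have hdT : dag (diagonal t) = diagonal t' := by
    rw [lt2_psu_dag_diagonal]
    congr 1
    funext i
    by_cases h0 : i = 0
    · rw [h0, hrev0, htl, ht'0, star_inv₀, star_star]
    by_cases h1 : i = l
    · rw [h1, hrevl, ht0, ht'l]
    obtain ⟨h2, h3⟩ := hrevm i h0 h1
    rw [htm _ h2 h3, ht'm i h0 h1, star_one]
  have hdT' : dag (diagonal t') = diagonal t := by
    rw [lt2_psu_dag_diagonal]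
    congr 1
    funext i
    by_cases h0 : i = 0
    · rw [h0, hrev0, ht'l, ht0, star_star]
    by_cases h1 : i = l
    · rw [h1, hrevl, ht'0, htl, star_inv₀]
    obtain ⟨h2, h3⟩ := hrevm i h0 h1
    rw [ht'm _ h2 h3, htm i h0 h1, star_one]
  let q' : UG (d + 2) K := lt2_psu_conj (diagonal t) (diagonal t') hT hT' hdT hdT' q
  have hq'val : q'.val = diagonal t * q.val * diagonal t' := rfl
  obtain ⟨hup, hdiag⟩ := mem_Usub.mp hq
  have hentry : ∀ i j, q'.val i j = t i * q.val i j * t' j := by
    intro i j
    rw [hq'val, Matrix.mul_diagonal, Matrix.diagonal_mul]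
  have hq' : q' ∈ Usub (d + 2) K := by
    rw [mem_Usub]
    constructor
    · intro i j hij
      rw [hentry, hup hij, mul_zero, zero_mul]
    · intro i
      rw [hentry, hdiag, mul_one, htt']
  -- the nilpotent parts
  set N : Matrix (Fin (d + 2)) (Fin (d + 2)) K := q.val - 1 with hNdef
  have hN : lt2_psu_Shape N := lt2_psu_shape hq hmid
  have hqval : q.val = 1 + N := by rw [hNdef]; abel
  set N' : Matrix (Fin (d + 2)) (Fin (d + 2)) K := diagonal t * N * diagonal t' with hN'def
  have hq'val' : q'.val = 1 + N' := by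
    rw [hq'val, hqval, hN'def, Matrix.mul_add, Matrix.add_mul, Matrix.mul_one, hT]
  have hNN' : N * N' = star lam • (N * N) := by
    rw [hN'def]
    calc N * (diagonal t * N * diagonal t') = N * diagonal t * N * diagonal t' := by
          simp only [Matrix.mul_assoc]
      _ = star lam • (N * N) := by
          rw [lt2_psu_NvN hN t htm, lt2_psu_NN_mul_diag hN, ht'l]
  have hN'N : N' * N = lam • (N * N) := by
    rw [hN'def]
    calc diagonal t * N * diagonal t' * N = diagonal t * (N * diagonal t' * N) := by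
          simp only [Matrix.mul_assoc]
      _ = lam • (N * N) := by
          rw [lt2_psu_NvN hN t' ht'm, lt2_psu_diag_mul_NN hN, ht0]
  have hAB : N * N' = N' * N + N * N := by
    rw [hNN', hN'N, hstar, add_smul, one_smul]
  have hCN : N * N * N = 0 := lt2_psu_NN_mul hN N hN.row
  have hrow' : ∀ j, N' l j = 0 := by
    intro j
    rw [hN'def, Matrix.mul_diagonal, Matrix.diagonal_mul, hN.row, mul_zero, zero_mul]
  have hCN' : N * N * N' = 0 := lt2_psu_NN_mul hN N' hrow'
  have h2 : N + N = 0 := CharTwo.add_self_eq_zero N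
  have key := lt2_psu_ring N N' h2 hAB hCN hCN'
  have hgrp : q * q' = (q * q) * (q' * q) := by
    apply UG.ext
    simp only [UG.mul_val]
    rw [hq'val', hqval]
    exact key
  have hcomm : q * q = ⁅q, q'⁆ := by
    rw [commutatorElement_def, hgrp]
    group
  rw [hcomm]
  exact Subgroup.commutator_mem_commutator hq hq'

end Cfsg.Agent.LT2
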