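import Mathlib
import Cfsg.Agent.LT2.PSUb

set_option autoImplicit false

/-!
S4625, family PSU, part (c): reduction to the middle block and induction on the dimension.
-/

namespace Cfsg.Agent.LT2

open Matrix Cfsg.Agent.Helper1.SUJ
open scoped commutatorElement

variable {K : Type*} [Field K] [StarRing K]

/-- The embedding of the middle unitary group, as a homomorphism. -/
def lt2_psu_E (d : ℕ) : UG d K →* UG (d + 2) K :=
  MonoidHom.mk' (embG (lt2_psu_f d) (lt2_psu_f_inj d) (lt2_psu_f_rev d))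
    (embG_mul (lt2_psu_f d) (lt2_psu_f_inj d) (lt2_psu_f_rev d))

theorem lt2_psu_E_val (d : ℕ) (u : UG d K) :
    (lt2_psu_E d u).val = emb (lt2_psu_f d) u.val := rfl

theorem lt2_psu_E_mem {d : ℕ} {u : UG d K} (hu : u ∈ Usub d K) : lt2_psu_E d u ∈ Usub (d + 2) K := by
  obtain ⟨h1, h2⟩ := mem_Usub.mp hu
  rw [mem_Usub, lt2_psu_E_val]
  exact ⟨emb_upper (lt2_psu_f_strictMono d) h1, emb_diag (lt2_psu_f_inj d) h2⟩

/-- The middle block of an element of `Usub (d+2) K` is an element of `Usub d K`. -/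
theorem lt2_psu_mid {d : ℕ} {g : UG (d + 2) K} (hg : g ∈ Usub (d + 2) K) :
    ∃ u : UG d K, u ∈ Usub d K ∧
      ∀ a b, u.val a b = g.val (lt2_psu_f d a) (lt2_psu_f d b) := by
  obtain ⟨hup, hdiag⟩ := mem_Usub.mp hg
  let A : Matrix (Fin d) (Fin d) K := Matrix.of fun a b => g.val (lt2_psu_f d a) (lt2_psu_f d b)
  have hA : ∀ a b, A a b = g.val (lt2_psu_f d a) (lt2_psu_f d b) := fun _ _ => rfl
  have hAup : A.BlockTriangular id := by
    intro a b hab
    change b < a at hab
    rw [hA]
    exact hup ((lt2_psu_f_strictMono d) hab)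
  have hAdiag : ∀ a, A a a = 1 := fun a => by rw [hA, hdiag]
  have hAunit : dag A * A = 1 := by
    ext a b
    have h := congrFun (congrFun g.unit (lt2_psu_f d a)) (lt2_psu_f d b)
    rw [Matrix.mul_apply, lt2_psu_sum] at h
    have h0 : dag g.val (lt2_psu_f d a) 0 = 0 := by
      rw [dag_apply, Fin.rev_zero]
      have hlt : (lt2_psu_f d a).rev < Fin.last (d + 1) :=
        Fin.lt_last_iff_ne_last.mpr (by
          intro e
          apply lt2_psu_f_ne_zero d a
          rw [← Fin.rev_rev (lt2_psu_f d a), e, Fin.rev_last])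
      have h0' : g.val (Fin.last (d + 1)) (lt2_psu_f d a).rev = 0 := hup hlt
      rw [h0', star_zero]
    have hl : g.val (Fin.last (d + 1)) (lt2_psu_f d b) = 0 :=
      hup (Fin.lt_last_iff_ne_last.mpr (lt2_psu_f_ne_last d b))
    rw [h0, hl, zero_mul, mul_zero, zero_add, add_zero] at h
    rw [Matrix.mul_apply]
    have e1 : ∀ c, dag A a c * A c b =
        dag g.val (lt2_psu_f d a) (lt2_psu_f d c) * g.val (lt2_psu_f d c) (lt2_psu_f d b) := by
      intro c
      rw [dag_apply, dag_apply, hA, hA, lt2_psu_f_rev, lt2_psu_f_rev]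
    rw [Finset.sum_congr rfl (fun c _ => e1 c), h, one_apply, one_apply]
    by_cases hab : a = b
    · rw [if_pos hab, if_pos (by rw [hab])]
    · rw [if_neg hab, if_neg (fun e => hab (lt2_psu_f_inj d e))]
  have hAdet : A.det = 1 := by
    rw [Matrix.det_of_upperTriangular hAup]
    exact Finset.prod_eq_one (fun a _ => hAdiag a)
  exact ⟨⟨A, hAunit, hAdet⟩, mem_Usub.mpr ⟨hAup, hAdiag⟩, fun _ _ => rfl⟩

/-- The inductive step. -/
theorem lt2_psu_step [CharP K 2] (lam : K) (hlam : lam + star lam = 1) (d : ℕ)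
    (IH : ∀ u ∈ Usub d K, u * u ∈ ⁅Usub d K, Usub d K⁆) :
    ∀ g ∈ Usub (d + 2) K, g * g ∈ ⁅Usub (d + 2) K, Usub (d + 2) K⁆ := by
  intro g hg
  obtain ⟨u, hu, huv⟩ := lt2_psu_mid hg
  set e : UG (d + 2) K := lt2_psu_E d u with he
  have hemem : e ∈ Usub (d + 2) K := lt2_psu_E_mem hu
  set q : UG (d + 2) K := g * e⁻¹ with hqdef
  have hq : q ∈ Usub (d + 2) K := mul_mem hg (inv_mem hemem)
  have hmid : ∀ a b, q.val (lt2_psu_f d a) (lt2_psu_f d b) = (1 : Matrix (Fin d) (Fin d) K) a b := by
    intro a b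
    have hinv : e⁻¹ = lt2_psu_E d u⁻¹ := by rw [he, map_inv]
    rw [hqdef, UG.mul_val, hinv, lt2_psu_E_val, mul_emb_apply_range (lt2_psu_f_inj d)]
    have : ∀ c, g.val (lt2_psu_f d a) (lt2_psu_f d c) * (u⁻¹).val c b = u.val a c * (u⁻¹).val c b := by
      intro c
      rw [huv]
    rw [Finset.sum_congr rfl (fun c _ => this c), ← Matrix.mul_apply, ← UG.mul_val, mul_inv_cancel,
      UG.one_val]
  have hqq := lt2_psu_heis lam hlam hq hmid
  have hee : e * e ∈ ⁅Usub (d + 2) K, Usub (d + 2) K⁆ := by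
    have h1 : e * e = lt2_psu_E d (u * u) := by rw [he, map_mul]
    rw [h1]
    have h2 : (⁅Usub d K, Usub d K⁆).map (lt2_psu_E d) ≤ ⁅Usub (d + 2) K, Usub (d + 2) K⁆ := by
      rw [Subgroup.map_commutator]
      apply Subgroup.commutator_mono <;>
      · rintro _ ⟨x, hx, rfl⟩
        exact lt2_psu_E_mem hx
    exact h2 (Subgroup.mem_map_of_mem _ (IH u hu))
  have hg' : g = q * e := by rw [hqdef, inv_mul_cancel_right]
  have hfin : g * g = (q * q) * ⁅q⁻¹, e⁆ * (e * e) := by
    rw [hg', commutatorElement_def]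
    group
  rw [hfin]
  exact mul_mem (mul_mem hqq (Subgroup.commutator_mem_commutator (inv_mem hq) hemem)) hee

/-- In characteristic 2, every element of the upper unitriangular subgroup of the unitary group has
its square in the derived subgroup. -/
theorem lt2_psu_Usub_sq [CharP K 2] (lam : K) (hlam : lam + star lam = 1) (n : ℕ) :
    ∀ g ∈ Usub n K, g * g ∈ ⁅Usub n K, Usub n K⁆ := by
  induction n using Nat.twoStepInduction with
  | zero =>
    intro g _
    have : g = 1 := UG.ext (Subsingleton.elim _ _)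
    rw [this, mul_one]
    exact one_mem _
  | one =>
    intro g hg
    have : g = 1 := by
      apply UG.ext
      ext i j
      have hij : i = j := Subsingleton.elim i j
      subst hij
      rw [(mem_Usub.mp hg).2 i, UG.one_val, one_apply_eq]
    rw [this, mul_one]
    exact one_mem _
  | more d ih _ => exact lt2_psu_step lam hlam d ih

end Cfsg.Agent.LT2
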