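import Mathlib

set_option autoImplicit false

/-!
The relative trace `d ↦ d + d^q` of a finite field with `q²` elements is onto the fixed field of
`x ↦ x^q`.
-/

namespace Cfsg.Agent.LT2

open Polynomial

variable {F : Type*} [Field F] [Fintype F]

/-- `q` is a power of the characteristic, so `x ↦ x ^ q` is additive. -/
theorem lt2_psu_add_pow {q : ℕ} (hF : Fintype.card F = q ^ 2) (x y : F) :
    (x + y) ^ q = x ^ q + y ^ q := by
  obtain ⟨p, hchar⟩ := CharP.exists F
  obtain ⟨n, hp, hn⟩ := FiniteField.card F p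
  haveI : Fact p.Prime := ⟨hp⟩
  have hdvd : q ∣ p ^ (n : ℕ) := by
    rw [← hn, hF]
    exact Dvd.intro_left (q ^ 1) (by ring)
  obtain ⟨a, -, rfl⟩ := (Nat.dvd_prime_pow hp).1 hdvd
  exact add_pow_char_pow x y p a

theorem lt2_psu_one_lt {q : ℕ} (hF : Fintype.card F = q ^ 2) : 1 < q := by
  have h1 : 1 < Fintype.card F := Fintype.one_lt_card
  rw [hF] at h1
  by_contra h
  have : q ≤ 1 := not_lt.mp h
  have h2 : q ^ 2 ≤ 1 := by
    calc q ^ 2 ≤ 1 ^ 2 := Nat.pow_le_pow_left this 2
      _ = 1 := one_pow 2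
  omega

/-- Some element has non-zero relative trace. -/
theorem lt2_psu_exists_ne {q : ℕ} (hF : Fintype.card F = q ^ 2) : ∃ u : F, u + u ^ q ≠ 0 := by
  classical
  by_contra hall
  simp only [not_exists, not_not] at hall
  have hq := lt2_psu_one_lt hF
  have h11 : (1 : F) + 1 = 0 := by
    have := hall 1
    rwa [one_pow] at this
  have hneg : ∀ u : F, -u = u := by
    intro u
    have : u + u = 0 := by
      have := congrArg (fun z => z * u) h11
      simpa [add_mul] using this
    exact neg_eq_of_add_eq_zero_left this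
  have hfix : ∀ u : F, u ^ q = u := by
    intro u
    have h1 : u ^ q = -u := by
      have := hall u
      exact (neg_eq_of_add_eq_zero_right this).symm
    rw [h1, hneg]
  have hP0 : (X ^ q - X : F[X]) ≠ 0 := FiniteField.X_pow_card_sub_X_ne_zero F hq
  have hdeg : (X ^ q - X : F[X]).natDegree = q := FiniteField.X_pow_card_sub_X_natDegree_eq F hq
  have hroots : ∀ u : F, u ∈ (X ^ q - X : F[X]).roots := by
    intro u
    rw [Polynomial.mem_roots hP0, Polynomial.IsRoot.def]
    simp [hfix u]
  have h1 : Fintype.card F ≤ (X ^ q - X : F[X]).roots.toFinset.card := by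
    rw [← Finset.card_univ]
    apply Finset.card_le_card
    intro u _
    exact Multiset.mem_toFinset.2 (hroots u)
  have h2 : (X ^ q - X : F[X]).roots.toFinset.card ≤ q := by
    calc (X ^ q - X : F[X]).roots.toFinset.card ≤ Multiset.card (X ^ q - X : F[X]).roots :=
          Multiset.toFinset_card_le _
      _ ≤ (X ^ q - X : F[X]).natDegree := Polynomial.card_roots' _
      _ = q := hdeg
  rw [hF] at h1
  have h3 : q ^ 2 ≤ q := h1.trans h2
  have h4 : q * 2 ≤ q ^ 2 := by
    rw [pow_two]
    exact Nat.mul_le_mul_left q hq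
  omega

/-- **The relative trace is onto the fixed field.** -/
theorem lt2_psu_trace_onto {q : ℕ} (hF : Fintype.card F = q ^ 2) (c : F) (hc : c ^ q = c) :
    ∃ d : F, d + d ^ q = c := by
  obtain ⟨u, hu⟩ := lt2_psu_exists_ne hF
  set t := u + u ^ q with ht
  have htq : t ^ q = t := by
    rw [ht, lt2_psu_add_pow hF, ← pow_mul, ← pow_two, ← hF, FiniteField.pow_card, add_comm]
  refine ⟨c * u * t⁻¹, ?_⟩
  rw [mul_pow, mul_pow, inv_pow, htq, hc]
  have : c * u * t⁻¹ + c * u ^ q * t⁻¹ = c * (u + u ^ q) * t⁻¹ := by ring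
  rw [this, ← ht, mul_assoc, mul_inv_cancel₀ hu, mul_one]

/-- The form used for the unitary groups: `star = (· ^ q)`. -/
theorem lt2_psu_htr [StarRing F] {q : ℕ} (hstar : ∀ x : F, star x = x ^ q)
    (hF : Fintype.card F = q ^ 2) : ∀ c : F, star c = c → ∃ d : F, d + star d = c := by
  intro c hc
  rw [hstar] at hc
  obtain ⟨d, hd⟩ := lt2_psu_trace_onto hF c hc
  exact ⟨d, by rw [hstar]; exact hd⟩

end Cfsg.Agent.LT2
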