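import Mathlib
import Cfsg.Agent.LT2.PSUc
import Cfsg.Agent.LT2.Gen
import Cfsg.Agent.LT2.TrField

set_option autoImplicit false

/-!
S4625, family PSU: wrap-up. Every Sylow 2-subgroup `P` of `PSU n F q` (characteristic 2) has
`P / P'` elementary abelian.
-/

namespace Cfsg.Agent.LT2

open Matrix Cfsg Cfsg.Agent.Helper1.SUJ

theorem lt2_psu {F : Type*} [Field F] [Fintype F] [CharP F 2] (n q : ℕ)
    (hF : Fintype.card F = q ^ 2) :
    ∀ P : Sylow 2 (Cfsg.PSU n F q), ∀ y ∈ (P : Subgroup (Cfsg.PSU n F q)),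
      y ^ 2 ∈ ⁅(P : Subgroup (Cfsg.PSU n F q)), (P : Subgroup (Cfsg.PSU n F q))⁆ := by
  letI : StarRing F := Cfsg.Agent.Helper1.SUJ.starRingQ hF
  haveI : Fact (Nat.Prime 2) := ⟨Nat.prime_two⟩
  have hstar : ∀ x : F, star x = x ^ q := fun _ => rfl
  obtain ⟨τ₀, hτ0, hτ⟩ := Cfsg.Agent.Helper8.SUCenter.exists_trace_zero hF
  have hτ' : star τ₀ = -τ₀ := by
    rw [hstar]
    exact eq_neg_of_add_eq_zero_left hτ
  obtain ⟨lam, hlam⟩ := lt2_psu_htr hstar hF 1 (star_one F)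
  obtain ⟨φ⟩ := Cfsg.Agent.Helper1.SUJ.exists_iso (n := n) hstar hF
  -- the Sylow subgroup `Usub`
  let P₀ : Sylow 2 (UG n F) :=
    (Cfsg.Agent.Helper1.SUJ.isPGroup_Usub (n := n) (K := F) 2).toSylow
      (Cfsg.Agent.Helper1.SUJ.not_dvd_index_Usub τ₀ hτ' hτ0 2)
  have hP₀ : (P₀ : Subgroup (UG n F)) = Usub n F := rfl
  have h0 : ∀ y ∈ (P₀ : Subgroup (UG n F)),
      y ^ 2 ∈ ⁅(P₀ : Subgroup (UG n F)), (P₀ : Subgroup (UG n F))⁆ := by
    intro y hy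
    rw [hP₀] at hy ⊢
    rw [pow_two]
    exact lt2_psu_Usub_sq lam hlam n y hy
  have h1 := lt2_of_sylow P₀ h0
  have h2 := lt2_of_surjective φ.toMonoidHom φ.surjective h1
  haveI : Finite (Cfsg.SU n F q) := Finite.of_equiv _ φ.toEquiv
  exact lt2_of_quotient (Subgroup.center (Cfsg.SU n F q)) h2

end Cfsg.Agent.LT2
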