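import Mathlib

set_option autoImplicit false

/-!
S4625 swarm "LT2": (U), map form, Mathlib only (helper4's self-contained version, names `lt2_psp_*`).
In characteristic `2` the square of an upper unitriangular matrix lies in the derived subgroup of any
subgroup `V` containing the images of all upper unitriangular matrices.  Proof: peel off the rows one
at a time; the row matrices `1 + e_k vᵀ` (`v k = 0`) are involutions.
-/

namespace Cfsg.Agent.LT2

open Matrix
open scoped commutatorElement

variable {K : Type*} [Field K] {m : ℕ}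

theorem lt2_psp_mul_sq {G : Type*} [Group G] (U : Subgroup G) {a b : G} (ha : a ∈ U) (hb : b ∈ U)
    (ha2 : a ^ 2 ∈ ⁅U, U⁆) (hb2 : b ^ 2 ∈ ⁅U, U⁆) : (a * b) ^ 2 ∈ ⁅U, U⁆ := by
  have h : (a * b) ^ 2 = a ^ 2 * ⁅a⁻¹, b⁆ * b ^ 2 := by
    simp only [pow_two, commutatorElement_def]; group
  rw [h]
  exact mul_mem (mul_mem ha2 (Subgroup.commutator_mem_commutator (inv_mem ha) hb)) hb2

/-- `E k v`: the matrix whose only nonzero row is row `k`, equal to `v`. -/
def lt2_psp_ut_E (k : Fin m) (v : Fin m → K) : Matrix (Fin m) (Fin m) K :=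
  Matrix.of fun l j => if l = k then v j else 0

theorem lt2_psp_ut_E_apply (k : Fin m) (v : Fin m → K) (l j : Fin m) :
    lt2_psp_ut_E k v l j = if l = k then v j else 0 := rfl

theorem lt2_psp_ut_mul_E (X : Matrix (Fin m) (Fin m) K) (k : Fin m) (v : Fin m → K) (i j : Fin m) :
    (X * lt2_psp_ut_E k v) i j = X i k * v j := by
  simp [Matrix.mul_apply, lt2_psp_ut_E_apply]

/-- the row vector `A k - e_k` -/
def lt2_psp_ut_v (A : Matrix (Fin m) (Fin m) K) (k : Fin m) : Fin m → K :=
  fun j => A k j - (1 : Matrix (Fin m) (Fin m) K) k j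

theorem lt2_psp_ut_R_sq [CharP K 2] (k : Fin m) (v : Fin m → K) (hv : v k = 0) :
    (1 + lt2_psp_ut_E k v) * (1 + lt2_psp_ut_E k v) = 1 := by
  have hEE : lt2_psp_ut_E k v * lt2_psp_ut_E k v = 0 := by
    ext i j
    rw [lt2_psp_ut_mul_E, lt2_psp_ut_E_apply]
    split_ifs <;> simp [hv]
  have hE2 : lt2_psp_ut_E k v + lt2_psp_ut_E k v = 0 := by
    ext i j
    exact CharTwo.add_self_eq_zero _
  rw [mul_add, add_mul, add_mul, Matrix.one_mul, Matrix.mul_one, Matrix.one_mul, hEE, add_zero,
    add_assoc, hE2, add_zero]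

/-- the row matrix `R = 1 + E k v` as an element of `GL` -/
def lt2_psp_ut_R [CharP K 2] (k : Fin m) (v : Fin m → K) (hv : v k = 0) : GL (Fin m) K :=
  ⟨1 + lt2_psp_ut_E k v, 1 + lt2_psp_ut_E k v, lt2_psp_ut_R_sq k v hv, lt2_psp_ut_R_sq k v hv⟩

theorem lt2_psp_ut_R_coe [CharP K 2] (k : Fin m) (v : Fin m → K) (hv : v k = 0) :
    ((lt2_psp_ut_R k v hv : GL (Fin m) K) : Matrix (Fin m) (Fin m) K) = 1 + lt2_psp_ut_E k v := rfl

theorem lt2_psp_ut_R_mul_self [CharP K 2] (k : Fin m) (v : Fin m → K) (hv : v k = 0) :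
    lt2_psp_ut_R k v hv * lt2_psp_ut_R k v hv = 1 := by
  apply Units.ext
  exact lt2_psp_ut_R_sq k v hv

theorem lt2_psp_ut_mul_R_apply [CharP K 2] (A : GL (Fin m) K) (k : Fin m) (v : Fin m → K)
    (hv : v k = 0) (i j : Fin m) :
    ((A * lt2_psp_ut_R k v hv : GL (Fin m) K) : Matrix (Fin m) (Fin m) K) i j =
      (A : Matrix (Fin m) (Fin m) K) i j + (A : Matrix (Fin m) (Fin m) K) i k * v j := by
  rw [Units.val_mul, lt2_psp_ut_R_coe, mul_add, Matrix.mul_one, Matrix.add_apply, lt2_psp_ut_mul_E]

/-- **(U), map form**: if `φ` maps upper unitriangular matrices into `V`, then it maps their squares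
into `⁅V, V⁆` (characteristic `2`). -/
theorem lt2_psp_ut_map_sq [CharP K 2] {H : Type*} [Group H] (φ : GL (Fin m) K →* H) (V : Subgroup H)
    (hV : ∀ A : GL (Fin m) K, (∀ i j, j < i → (A : Matrix (Fin m) (Fin m) K) i j = 0) →
      (∀ i, (A : Matrix (Fin m) (Fin m) K) i i = 1) → φ A ∈ V) :
    ∀ A : GL (Fin m) K, (∀ i j, j < i → (A : Matrix (Fin m) (Fin m) K) i j = 0) →
      (∀ i, (A : Matrix (Fin m) (Fin m) K) i i = 1) → (φ A) ^ 2 ∈ ⁅V, V⁆ := by
  -- induction on the number of rows that may differ from the identity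
  have key : ∀ n : ℕ, ∀ A : GL (Fin m) K,
      (∀ i j, j < i → (A : Matrix (Fin m) (Fin m) K) i j = 0) →
      (∀ i, (A : Matrix (Fin m) (Fin m) K) i i = 1) →
      (∀ i : Fin m, (i : ℕ) + n < m → ∀ j, (A : Matrix (Fin m) (Fin m) K) i j =
        (1 : Matrix (Fin m) (Fin m) K) i j) → (φ A) ^ 2 ∈ ⁅V, V⁆ := by
    intro n
    induction n with
    | zero =>
      intro A _ _ hrow
      have hA : A = 1 := by
        apply Units.ext
        ext i j
        rw [hrow i (by simp) j]
        rfl
      rw [hA, map_one, one_pow]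
      exact Subgroup.one_mem _
    | succ n ih =>
      intro A hA0 hA1 hrow
      by_cases hnm : n + 1 ≤ m
      · -- the row `k = m - n - 1`
        set k : Fin m := ⟨m - n - 1, by omega⟩ with hk
        have hkval : (k : ℕ) = m - n - 1 := rfl
        set v := lt2_psp_ut_v (A : Matrix (Fin m) (Fin m) K) k with hvdef
        have hvk : v k = 0 := by
          rw [hvdef, lt2_psp_ut_v, hA1, Matrix.one_apply_eq, sub_self]
        have hvlt : ∀ j, j < k → v j = 0 := by
          intro j hj
          rw [hvdef, lt2_psp_ut_v, hA0 k j hj, Matrix.one_apply_ne (ne_of_gt hj), sub_zero]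
        set R := lt2_psp_ut_R k v hvk with hR
        -- `R` is upper unitriangular
        have hR0 : ∀ i j, j < i → (R : Matrix (Fin m) (Fin m) K) i j = 0 := by
          intro i j hji
          rw [hR, lt2_psp_ut_R_coe, Matrix.add_apply, Matrix.one_apply_ne (ne_of_gt hji),
            lt2_psp_ut_E_apply, zero_add]
          split_ifs with h
          · exact hvlt j (h ▸ hji)
          · rfl
        have hR1 : ∀ i, (R : Matrix (Fin m) (Fin m) K) i i = 1 := by
          intro i
          rw [hR, lt2_psp_ut_R_coe, Matrix.add_apply, Matrix.one_apply_eq, lt2_psp_ut_E_apply]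
          split_ifs with h
          · rw [h, hvk, add_zero]
          · rw [add_zero]
        -- `A' = A * R`
        have hA'0 : ∀ i j, j < i → ((A * R : GL (Fin m) K) : Matrix (Fin m) (Fin m) K) i j = 0 := by
          intro i j hji
          rw [hR, lt2_psp_ut_mul_R_apply, hA0 i j hji, zero_add]
          rcases lt_or_ge k i with h | h
          · rw [hA0 i k h, zero_mul]
          · rw [hvlt j (lt_of_lt_of_le hji h), mul_zero]
        have hA'1 : ∀ i, ((A * R : GL (Fin m) K) : Matrix (Fin m) (Fin m) K) i i = 1 := by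
          intro i
          rw [hR, lt2_psp_ut_mul_R_apply, hA1 i]
          rcases lt_trichotomy i k with h | h | h
          · rw [hvlt i h, mul_zero, add_zero]
          · rw [h, hvk, mul_zero, add_zero]
          · rw [hA0 i k h, zero_mul, add_zero]
        have hA'row : ∀ i : Fin m, (i : ℕ) + n < m → ∀ j,
            ((A * R : GL (Fin m) K) : Matrix (Fin m) (Fin m) K) i j =
              (1 : Matrix (Fin m) (Fin m) K) i j := by
          intro i hi j
          rw [hR, lt2_psp_ut_mul_R_apply]
          by_cases hik : i = k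
          · rw [hik, hA1, one_mul, hvdef, lt2_psp_ut_v]
            have h2 : (A : Matrix (Fin m) (Fin m) K) k j + (A : Matrix (Fin m) (Fin m) K) k j = 0 :=
              CharTwo.add_self_eq_zero _
            rw [← add_sub_assoc, h2, zero_sub, CharTwo.neg_eq]
          · have hlt : (i : ℕ) + (n + 1) < m := by
              have : (i : ℕ) ≠ (k : ℕ) := fun h => hik (Fin.ext h)
              omega
            rw [hrow i hlt j, hrow i hlt k, Matrix.one_apply_ne hik, zero_mul, add_zero]
        have hAeq : A = (A * R) * R := by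
          rw [mul_assoc, hR, lt2_psp_ut_R_mul_self, mul_one]
        have h1 := ih (A * R) hA'0 hA'1 hA'row
        have h2 : (φ R) ^ 2 ∈ ⁅V, V⁆ := by
          rw [pow_two, ← map_mul, hR, lt2_psp_ut_R_mul_self, map_one]
          exact Subgroup.one_mem _
        rw [hAeq, map_mul]
        exact lt2_psp_mul_sq V (hV _ hA'0 hA'1) (hV _ hR0 hR1) h1 h2
      · exact ih A hA0 hA1 (fun i hi j => absurd hi (by omega))
  intro A hA0 hA1
  exact key m A hA0 hA1 (fun i hi j => absurd hi (by omega))

end Cfsg.Agent.LT2
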