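import Mathlib
import Cfsg.Prelude.Def_Classical
import Cfsg.Agent.Lead.SpFusD
import Cfsg.Agent.G2S.SylAbs
import Cfsg.Agent.LT2.UTMap

set_option autoImplicit false

/-!
S4625 swarm "LT2", family (c1): `PSp_{2m}(F)` in characteristic `2`.
`U = Lead.SpFus.Usub` is a Sylow `2`-subgroup of `Sp_{2m}(F)` (`Lead.SpFus.sylowU`); every `g ∈ U` is
`levGL A * sieg S` with `A` upper unitriangular and `S` symmetric; `(sieg S)² = sieg (S + S) = 1`,
`(levGL A)² ∈ ⁅U, U⁆` by `lt2_psp_ut_map_sq`, and `(ab)² = a² ⁅a⁻¹, b⁆ b²`.  The passage to all Sylow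
subgroups of the quotient `PSp` is helper2's `g2s_sylow_of_surjective` with `O = ⊥`.
-/

namespace Cfsg.Agent.LT2

open Matrix Cfsg.Agent.Lead.SpFus
open scoped commutatorElement

variable {K : Type*} [Field K] {m : ℕ}

/-- squares of the unipotent subgroup `Usub` of `Sp_{2m}(K)` lie in its derived subgroup (char `2`) -/
theorem lt2_psp_Usub_sq [CharP K 2] : ∀ g ∈ Usub K m, g ^ 2 ∈ ⁅Usub K m, Usub K m⁆ := by
  intro g hg
  obtain ⟨A, S, hS, hA, hA1, rfl⟩ := exists_levGL_sieg_of_mem_Usub hg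
  apply lt2_psp_mul_sq _ (levGL_mem_Usub A hA hA1) (sieg_mem_Usub S hS)
  · exact lt2_psp_ut_map_sq (levGL (K := K) (m := m)) (Usub K m)
      (fun B hB0 hB1 => levGL_mem_Usub B (fun i j hji => hB0 i j hji) hB1) A
      (fun i j hji => hA hji) hA1
  · have : sieg S hS ^ 2 = 1 := by
      rw [pow_two, sieg_mul, ← sieg_zero]
      apply sieg_congr
      rw [← two_smul K S, CharTwo.two_eq_zero, zero_smul]
    rw [this]
    exact Subgroup.one_mem _

theorem lt2_psp' {F : Type*} [Field F] [Fintype F] [CharP F 2] (m : ℕ) [NeZero m] :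
    ∀ P : Sylow 2 (Cfsg.PSp m F), ∀ y ∈ (P : Subgroup (Cfsg.PSp m F)),
      y ^ 2 ∈ ⁅(P : Subgroup (Cfsg.PSp m F)), (P : Subgroup (Cfsg.PSp m F))⁆ := by
  intro P
  have : Fact (Nat.Prime 2) := ⟨Nat.prime_two⟩
  have hidx : Odd (Usub F m).index := by
    rw [← coe_sylowU (K := F) (m := m) 2]
    exact Nat.odd_iff.mpr (Nat.two_dvd_ne_zero.mp (Sylow.not_dvd_index (sylowU F m 2)))
  refine Cfsg.Agent.G2S.g2s_sylow_of_surjective
    (QuotientGroup.mk' (Subgroup.center (symplecticGroup (Fin m) F)))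
    (QuotientGroup.mk'_surjective _) (Usub F m) ⊥ ?_ ?_ ?_ hidx ?_ P
  · intro u _ o ho
    rw [Subgroup.mem_bot] at ho ⊢
    rw [ho, mul_one, mul_inv_cancel]
  · intro o ho
    rw [Subgroup.mem_bot] at ho
    rw [ho, orderOf_one]
    exact odd_one
  · intro u hu
    obtain ⟨k, hk⟩ := (isPGroup_Usub (K := F) (m := m) 2) ⟨u, hu⟩
    refine ⟨k, ?_⟩
    rw [Subgroup.mem_bot]
    have := congrArg Subtype.val hk
    simpa using this
  · intro g hg
    exact ⟨1, map_one _, by rw [mul_one]; exact lt2_psp_Usub_sq g hg⟩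

/-- **(c1)**, exact stub shape. -/
theorem lt2_psp {F : Type*} [Field F] [Fintype F] [CharP F 2] (m : ℕ) (hm : 2 ≤ m) :
    ∀ P : Sylow 2 (Cfsg.PSp m F), ∀ y ∈ (P : Subgroup (Cfsg.PSp m F)),
      y ^ 2 ∈ ⁅(P : Subgroup (Cfsg.PSp m F)), (P : Subgroup (Cfsg.PSp m F))⁆ := by
  have : NeZero m := ⟨by omega⟩
  exact lt2_psp' m

end Cfsg.Agent.LT2
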