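import Mathlib
import Cfsg.Agent.Helper7.ChevTwU5
import Cfsg.Agent.LT2.Gen
import Cfsg.Agent.S1066
import Cfsg.Agent.S1067

set_option autoImplicit false
set_option linter.unusedSectionVars false
set_option linter.unusedVariables false

/-!
# LT2, family (f): the twisted groups `²E₆(q)` and `³D₄(q)` in characteristic 2

`U¹ = U ⊓ G¹` is a Sylow `2`-subgroup (orders S1066 / S1067 and `twE6_card_U` / `twD4_card_U`), and it is
generated by involutions: by helper7's decomposition `twM_decomp`, every element of `U¹ = twM w₀` is a product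
of conjugates (by the `n_S`, which map `twM w'` into `twM (w' ++ S)`) of the class root elements
`x_S(t) = clsHom (upperSL t)`, which are involutions in characteristic 2.
-/

namespace Cfsg.Agent.LT2

open Cfsg Cfsg.Lie Matrix Cfsg.Agent.Helper7.Chev

theorem lt2_e6_upperSL_sq {K : Type*} [Field K] [CharP K 2] (t : K) :
    upperSL t * upperSL t = 1 := by
  rw [upperSL_mul, CharTwo.add_self_eq_zero]
  apply Subtype.ext
  change (!![1, 0; 0, 1] : Matrix (Fin 2) (Fin 2) K) = 1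
  ext i j
  fin_cases i <;> fin_cases j <;> simp

section main

variable {D : ChevalleyDatum} {K : Type*} [Field K]

variable (hG : Good2 D) (hT : T0 D) (h3 : (tabOf D).T3) (h4 : (tabOf D).T4 60) (h5 : (tabOf D).T5)
  (h6 : (tabOf D).T6) (h7 : (tabOf D).T7) (h8 : (tabOf D).T8)
  {ρ ρ' σ σ' : ℕ → ℕ} {ε : ℕ → ℤ} (h18 : T18 D ρ ρ' σ σ' ε) {cls : List (ℕ × ℕ)}
  (h19 : T19 D ρ σ cls) (h20 : (tabOf D).T20 ρ cls) (f : K ≃+* K)

include hT h3 h4 h5 h6 h7 h8 h18 h19 h20 in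
/-- In characteristic 2 the groups `twM w` (fixed points in `U_w⁻`) are generated by involutions. -/
theorem lt2_e6_twM_invol [CharP K 2] : ∀ L : List (ℕ × ℕ), (∀ c ∈ L, c ∈ cls) →
    PrefixPos D (L.flatMap (clsWord ρ)) →
    twM hG h18 f (L.flatMap (clsWord ρ)) ≤
      Subgroup.closure {x | x ∈ twM hG h18 f (L.flatMap (clsWord ρ)) ∧ x * x = 1} := by
  intro L
  induction L using List.reverseRecOn with
  | nil =>
    intro _ _
    rw [List.flatMap_nil, twM_nil hG hT h18 f]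
    exact bot_le
  | append_singleton L c ih =>
    intro hL hpp
    have hc : c ∈ cls := hL c (by simp)
    have hL' : ∀ c' ∈ L, c' ∈ cls := fun c' hc' => hL c' (by simp [hc'])
    rw [List.flatMap_append, List.flatMap_singleton] at hpp ⊢
    have hw' : ∀ i ∈ L.flatMap (clsWord ρ), i < D.rank := flatMap_clsWord_lt h19 hL'
    obtain ⟨hpp', hpos⟩ := cls_pos_of_prefixPos hG h19 hc hpp
    have ih1 := (twM_main hG hT h3 h4 h5 h6 h7 h8 h18 h19 h20 f L hL' hpp').1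
    have ihI := ih hL' hpp'
    intro g hg
    obtain ⟨v', hv', t, ht, rfl⟩ :=
      twM_decomp hG hT h3 h4 h5 h6 h7 h8 h18 h19 h20 f hw' hc hpos hg
    refine mul_mem ?_ ?_
    · have hv'c := ihI hv'
      refine Subgroup.closure_induction
        (p := fun v _ => (nWordGL hG (clsWord ρ c))⁻¹ * v * nWordGL hG (clsWord ρ c) ∈
          Subgroup.closure {x | x ∈ twM hG h18 f (L.flatMap (clsWord ρ) ++ clsWord ρ c) ∧ x * x = 1})
        ?_ ?_ ?_ ?_ hv'c
      · intro x hx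
        apply Subgroup.subset_closure
        refine ⟨(twM_compose hG hT h3 h4 h6 h8 h18 h19 f hw' hc hpos ih1 hx.1).2, ?_⟩
        calc (nWordGL hG (clsWord ρ c))⁻¹ * x * nWordGL hG (clsWord ρ c) *
              ((nWordGL hG (clsWord ρ c))⁻¹ * x * nWordGL hG (clsWord ρ c))
            = (nWordGL hG (clsWord ρ c))⁻¹ * (x * x) * nWordGL hG (clsWord ρ c) := by group
          _ = 1 := by rw [hx.2]; group
      · rw [mul_one, inv_mul_cancel]
        exact one_mem _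
      · intro x y _ _ hx hy
        have e : (nWordGL hG (clsWord ρ c))⁻¹ * (x * y) * nWordGL hG (clsWord ρ c) =
            ((nWordGL hG (clsWord ρ c))⁻¹ * x * nWordGL hG (clsWord ρ c)) *
              ((nWordGL hG (clsWord ρ c))⁻¹ * y * nWordGL hG (clsWord ρ c)) := by group
        rw [e]
        exact mul_mem hx hy
      · intro x _ hx
        have e : (nWordGL hG (clsWord ρ c))⁻¹ * x⁻¹ * nWordGL hG (clsWord ρ c) =
            ((nWordGL hG (clsWord ρ c))⁻¹ * x * nWordGL hG (clsWord ρ c))⁻¹ := by group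
        rw [e]
        exact inv_mem hx
    · apply Subgroup.subset_closure
      refine ⟨upper_mem_twM hG hT h3 h4 h18 h19 f hw' hc hpos ht, ?_⟩
      rw [← map_mul, lt2_e6_upperSL_sq, map_one]

include hT h3 h4 h5 h6 h7 h8 h18 h19 h20 in
/-- In characteristic 2 the squares of the elements of `twM w` lie in its derived subgroup. -/
theorem lt2_e6_twM_sq [CharP K 2] (L : List (ℕ × ℕ)) (hL : ∀ c ∈ L, c ∈ cls)
    (hpp : PrefixPos D (L.flatMap (clsWord ρ))) :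
    ∀ y ∈ twM hG h18 f (L.flatMap (clsWord ρ)),
      y ^ 2 ∈ ⁅twM hG h18 f (L.flatMap (clsWord ρ)), twM hG h18 f (L.flatMap (clsWord ρ))⁆ := by
  have h := lt2_e6_twM_invol hG hT h3 h4 h5 h6 h7 h8 h18 h19 h20 f L hL hpp
  have hU : twM hG h18 f (L.flatMap (clsWord ρ)) =
      Subgroup.closure {x | x ∈ twM hG h18 f (L.flatMap (clsWord ρ)) ∧ x * x = 1} :=
    le_antisymm h ((Subgroup.closure_le _).mpr fun x hx => hx.1)
  refine lt2_sq_of_gen_sub _ _ hU ?_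
  intro x hx
  rw [pow_two, hx.2]
  exact one_mem _

end main

/-- Generic transport: a `2`-subgroup `U¹ ≤ G` of a finite group `G ≤ H` with odd index-quotient and
squares in the derived subgroup gives the property for the Sylow `2`-subgroups of `↥G`. -/
theorem lt2_e6_transport {H : Type*} [Group H] (G U : Subgroup H) [Finite G] (hUG : U ≤ G)
    {a : ℕ} (hcard : Nat.card U = 2 ^ a) {M c : ℕ} (hord : c * Nat.card G = 2 ^ a * M)
    (hM : ¬ 2 ∣ M) (hsq : ∀ y ∈ U, y ^ 2 ∈ ⁅U, U⁆) :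
    ∀ P : Sylow 2 ↥G, ∀ y ∈ (P : Subgroup ↥G), y ^ 2 ∈ ⁅(P : Subgroup ↥G), (P : Subgroup ↥G)⁆ := by
  have : Fact (Nat.Prime 2) := ⟨Nat.prime_two⟩
  have hcardU' : Nat.card (U.subgroupOf G) = 2 ^ a := by
    rw [← hcard]
    exact Nat.card_congr (Subgroup.subgroupOfEquivOfLe hUG).toEquiv
  have hp : IsPGroup 2 (U.subgroupOf G) := IsPGroup.of_card hcardU'
  have hidx : ¬ 2 ∣ (U.subgroupOf G).index := by
    intro h2
    apply hM
    have h1 : Nat.card (U.subgroupOf G) * (U.subgroupOf G).index = Nat.card G :=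
      Subgroup.card_mul_index _
    rw [hcardU'] at h1
    obtain ⟨k, hk⟩ := h2
    have h3 : 2 ^ a * M = 2 ^ a * (c * (2 * k)) := by
      rw [← hord, ← h1, hk]
      ring
    have h4 : M = c * (2 * k) := Nat.eq_of_mul_eq_mul_left (pow_pos (by norm_num) a) h3
    exact ⟨c * k, by rw [h4]; ring⟩
  have hsq' : ∀ y ∈ U.subgroupOf G, y ^ 2 ∈ ⁅U.subgroupOf G, U.subgroupOf G⁆ := by
    intro y hy
    have h1 : ((y : H)) ^ 2 ∈ ⁅U, U⁆ := hsq _ (Subgroup.mem_subgroupOf.mp hy)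
    have h2 : ⁅U, U⁆ = (⁅U.subgroupOf G, U.subgroupOf G⁆).map G.subtype := by
      rw [Subgroup.map_commutator, Subgroup.map_subgroupOf_eq_of_le hUG]
    rw [h2] at h1
    obtain ⟨z, hz, hzy⟩ := h1
    have : z = y ^ 2 := Subtype.ext (by simpa using hzy)
    rw [← this]
    exact hz
  exact lt2_of_sylow (hp.toSylow hidx) (by rw [IsPGroup.toSylow_coe]; exact hsq')

theorem lt2_e6_q_two_pow {K : Type*} [Field K] [Fintype K] [CharP K 2] {q k : ℕ} (hk : k ≠ 0)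
    (hq : 2 ≤ q) (hK : Fintype.card K = q ^ k) : ∃ m, 1 ≤ m ∧ q = 2 ^ m := by
  obtain ⟨n, -, hn⟩ := FiniteField.card K 2
  have h1 : q ∣ 2 ^ (n : ℕ) := by
    rw [← hn, hK]
    exact dvd_pow_self q hk
  obtain ⟨m, -, hm⟩ := (Nat.dvd_prime_pow Nat.prime_two).mp h1
  refine ⟨m, ?_, hm⟩
  rcases Nat.eq_zero_or_pos m with h0 | h0
  · rw [h0, pow_zero] at hm
    omega
  · exact h0

theorem lt2_e6_odd_sub {m : ℕ} (hm : 1 ≤ m) (k : ℕ) (hk : k ≠ 0) : Odd ((2 ^ m) ^ k - 1) := by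
  have he : Even ((2 ^ m) ^ k) := by
    rw [← pow_mul]
    exact (Nat.even_pow.mpr ⟨even_two, by positivity⟩)
  exact Nat.Even.sub_odd (Nat.one_le_pow _ _ (by positivity)) he odd_one

theorem lt2_e6_odd_add {m : ℕ} (hm : 1 ≤ m) (k : ℕ) (hk : k ≠ 0) : Odd ((2 ^ m) ^ k + 1) := by
  have he : Even ((2 ^ m) ^ k) := by
    rw [← pow_mul]
    exact (Nat.even_pow.mpr ⟨even_two, by positivity⟩)
  exact he.add_one

/-- `U ⊓ ²E₆(q)` has its squares in its derived subgroup (characteristic 2). -/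
theorem lt2_e6_U_sq {K : Type*} [Field K] [Fintype K] [CharP K 2] {q : ℕ} (hq : IsPrimePow q)
    (hK : Fintype.card K = q ^ 2) :
    ∀ y ∈ chevE6.posUnipotent K ⊓ twistedE6 K q,
      y ^ 2 ∈ ⁅chevE6.posUnipotent K ⊓ twistedE6 K q, chevE6.posUnipotent K ⊓ twistedE6 K q⁆ := by
  obtain ⟨f, hf, hf2, e⟩ := twistedE6_eq hq hK
  have h1 := (posUnipotent_inf_twGroup good2_E6 T0_E6 T3_E6 T4_E6 T5_E6 T6_E6 T7_E6 T8_E6
    T18_E6 T19_E6 T20_E6 f w0clsE6_mem (prefixPos_of_tab PPcls_E6) W0cls_E6).1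
  rw [e, h1]
  exact lt2_e6_twM_sq good2_E6 T0_E6 T3_E6 T4_E6 T5_E6 T6_E6 T7_E6 T8_E6
    T18_E6 T19_E6 T20_E6 f w0clsE6 w0clsE6_mem (prefixPos_of_tab PPcls_E6)

/-- `U ⊓ ³D₄(q)` has its squares in its derived subgroup (characteristic 2). -/
theorem lt2_d4_U_sq {K : Type*} [Field K] [Fintype K] [CharP K 2] {q : ℕ} (hq : IsPrimePow q)
    (hK : Fintype.card K = q ^ 3) :
    ∀ y ∈ chevD4.posUnipotent K ⊓ twistedD4 K q,
      y ^ 2 ∈ ⁅chevD4.posUnipotent K ⊓ twistedD4 K q, chevD4.posUnipotent K ⊓ twistedD4 K q⁆ := by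
  obtain ⟨f, hf, hf3, e⟩ := twistedD4_eq hq hK
  have h1 := (posUnipotent_inf_twGroup good2_D4 T0_D4 T3_D4 T4_D4 T5_D4 T6_D4 T7_D4 T8_D4
    T18_D4a T19_D4 T20_D4 f w0clsD4_mem (prefixPos_of_tab PPcls_D4) W0cls_D4).1
  rw [e, h1]
  exact lt2_e6_twM_sq good2_D4 T0_D4 T3_D4 T4_D4 T5_D4 T6_D4 T7_D4 T8_D4
    T18_D4a T19_D4 T20_D4 f w0clsD4 w0clsD4_mem (prefixPos_of_tab PPcls_D4)

/-- **Family (f), `²E₆(q)`**, `q` even. -/
theorem lt2_e6 {K : Type*} [Field K] [Fintype K] [CharP K 2] (q : ℕ) (hq : IsPrimePow q)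
    (hK : Fintype.card K = q ^ 2) :
    ∀ P : Sylow 2 ↥(Cfsg.Lie.twistedE6 K q), ∀ y ∈ (P : Subgroup ↥(Cfsg.Lie.twistedE6 K q)),
      y ^ 2 ∈ ⁅(P : Subgroup ↥(Cfsg.Lie.twistedE6 K q)),
        (P : Subgroup ↥(Cfsg.Lie.twistedE6 K q))⁆ := by
  obtain ⟨m, hm1, hm⟩ := lt2_e6_q_two_pow (K := K) (k := 2) (by norm_num) hq.two_le hK
  have hsq := lt2_e6_U_sq hq hK
  have hcard := twE6_card_U hq hK
  have hord := Cfsg.Agent.S1066.result hq hK
  subst hm
  refine lt2_e6_transport (twistedE6 K (2 ^ m)) (chevE6.posUnipotent K ⊓ twistedE6 K (2 ^ m))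
    inf_le_right (a := m * 36) (c := Nat.gcd 3 (2 ^ m + 1))
    (M := ((2 ^ m) ^ 2 - 1) * ((2 ^ m) ^ 5 + 1) * ((2 ^ m) ^ 6 - 1) * ((2 ^ m) ^ 8 - 1) *
      ((2 ^ m) ^ 9 + 1) * ((2 ^ m) ^ 12 - 1)) ?_ ?_ ?_ hsq
  · rw [hcard, ← pow_mul]
  · rw [hord, pow_mul]
    simp only [mul_assoc]
  · rw [← even_iff_two_dvd, Nat.not_even_iff_odd]
    exact ((((((lt2_e6_odd_sub hm1 2 (by norm_num)).mul (lt2_e6_odd_add hm1 5 (by norm_num))).mul
      (lt2_e6_odd_sub hm1 6 (by norm_num))).mul (lt2_e6_odd_sub hm1 8 (by norm_num))).mul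
      (lt2_e6_odd_add hm1 9 (by norm_num))).mul (lt2_e6_odd_sub hm1 12 (by norm_num)))

/-- **Family (f), `³D₄(q)`**, `q` even. -/
theorem lt2_d4 {K : Type*} [Field K] [Fintype K] [CharP K 2] (q : ℕ) (hq : IsPrimePow q)
    (hK : Fintype.card K = q ^ 3) :
    ∀ P : Sylow 2 ↥(Cfsg.Lie.twistedD4 K q), ∀ y ∈ (P : Subgroup ↥(Cfsg.Lie.twistedD4 K q)),
      y ^ 2 ∈ ⁅(P : Subgroup ↥(Cfsg.Lie.twistedD4 K q)),
        (P : Subgroup ↥(Cfsg.Lie.twistedD4 K q))⁆ := by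
  obtain ⟨m, hm1, hm⟩ := lt2_e6_q_two_pow (K := K) (k := 3) (by norm_num) hq.two_le hK
  have hsq := lt2_d4_U_sq hq hK
  have hcard := twD4_card_U hq hK
  have hord := Cfsg.Agent.S1067.result hq hK
  subst hm
  refine lt2_e6_transport (twistedD4 K (2 ^ m)) (chevD4.posUnipotent K ⊓ twistedD4 K (2 ^ m))
    inf_le_right (a := m * 12) (c := 1)
    (M := ((2 ^ m) ^ 2 - 1) * ((2 ^ m) ^ 6 - 1) * ((2 ^ m) ^ 8 + (2 ^ m) ^ 4 + 1)) ?_ ?_ ?_ hsq
  · rw [hcard, ← pow_mul]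
  · rw [one_mul, hord, pow_mul]
    simp only [mul_assoc]
  · rw [← even_iff_two_dvd, Nat.not_even_iff_odd]
    refine ((lt2_e6_odd_sub hm1 2 (by norm_num)).mul (lt2_e6_odd_sub hm1 6 (by norm_num))).mul ?_
    have he : Even ((2 ^ m) ^ 8 + (2 ^ m) ^ 4) := by
      rw [← pow_mul, ← pow_mul]
      exact (Nat.even_pow.mpr ⟨even_two, by positivity⟩).add
        (Nat.even_pow.mpr ⟨even_two, by positivity⟩)
    exact he.add_one

end Cfsg.Agent.LT2
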