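import Mathlib
import Cfsg.Agent.Helper7.ChevF4l
import Cfsg.Agent.LT2.POmega

set_option autoImplicit false

/-!
# LT2, `²F₄(q)`: the fixed points of the unipotent group form a Sylow `2`-subgroup (helper8)

The reduction of the stub `lt2_f4` to the statement on the squares of
`U¹ = posUnipotent ⊓ twistedF4`.
-/

namespace Cfsg.Agent.LT2

open Cfsg Cfsg.Lie Cfsg.Agent.Helper7.Chev

section arithmetic

theorem lt2_f4_odd_cofactor (n : ℕ) (hn : 1 ≤ n) :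
    ¬ 2 ∣ (2 ^ n - 1) * ((2 ^ n) ^ 3 + 1) * ((2 ^ n) ^ 4 - 1) * ((2 ^ n) ^ 6 + 1) := by
  obtain ⟨k, rfl⟩ : ∃ k, n = k + 1 := ⟨n - 1, by omega⟩
  have h1 : (2 : ℕ) ^ (k + 1) = 2 * 2 ^ k := by rw [pow_succ, mul_comm]
  have hpos : 1 ≤ 2 ^ k := Nat.one_le_two_pow
  have o1 : ¬ 2 ∣ (2 ^ (k + 1) - 1) := by
    rw [h1]
    omega
  have o2 : ¬ 2 ∣ ((2 ^ (k + 1)) ^ 3 + 1) := by
    rw [h1]
    have : (2 * 2 ^ k) ^ 3 = 2 * (4 * (2 ^ k) ^ 3) := by ring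
    rw [this]
    omega
  have o3 : ¬ 2 ∣ ((2 ^ (k + 1)) ^ 4 - 1) := by
    rw [h1]
    have : (2 * 2 ^ k) ^ 4 = 2 * (8 * (2 ^ k) ^ 4) := by ring
    rw [this]
    have : 1 ≤ 8 * (2 ^ k) ^ 4 := by
      have : 1 ≤ (2 ^ k) ^ 4 := Nat.one_le_pow _ _ hpos
      omega
    omega
  have o4 : ¬ 2 ∣ ((2 ^ (k + 1)) ^ 6 + 1) := by
    rw [h1]
    have : (2 * 2 ^ k) ^ 6 = 2 * (32 * (2 ^ k) ^ 6) := by ring
    rw [this]
    omega
  intro h
  rcases (Nat.Prime.dvd_mul Nat.prime_two).mp h with h | h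
  · rcases (Nat.Prime.dvd_mul Nat.prime_two).mp h with h | h
    · rcases (Nat.Prime.dvd_mul Nat.prime_two).mp h with h | h
      · exact o1 h
      · exact o2 h
    · exact o3 h
  · exact o4 h

end arithmetic

variable {K : Type*} [Field K] [Fintype K] {m : ℕ}

/-- `U¹` as a subgroup of `²F₄(q)` has `2`-power order and odd index. -/
theorem lt2_f4_syl (hK : Fintype.card K = 2 ^ (2 * m + 1)) :
    IsPGroup 2 ↥((chevF4.posUnipotent K ⊓ twistedF4 K (2 ^ m)).subgroupOf (twistedF4 K (2 ^ m))) ∧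
    ¬ 2 ∣ ((chevF4.posUnipotent K ⊓ twistedF4 K (2 ^ m)).subgroupOf (twistedF4 K (2 ^ m))).index := by
  have : Fact (Nat.Prime 2) := ⟨Nat.prime_two⟩
  set U : Subgroup (GL chevF4.Idx K) := chevF4.posUnipotent K ⊓ twistedF4 K (2 ^ m) with hU
  set G : Subgroup (GL chevF4.Idx K) := twistedF4 K (2 ^ m) with hG
  have hle : U ≤ G := inf_le_right
  have hcU : Nat.card ↥(U.subgroupOf G) = (2 ^ (2 * m + 1)) ^ 12 := by
    rw [Nat.card_congr (Subgroup.subgroupOfEquivOfLe hle).toEquiv]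
    exact f4_S1090 hK
  have hcG : Nat.card ↥G = (2 ^ (2 * m + 1)) ^ 12 * ((2 ^ (2 * m + 1) - 1) *
      ((2 ^ (2 * m + 1)) ^ 3 + 1) * ((2 ^ (2 * m + 1)) ^ 4 - 1) * ((2 ^ (2 * m + 1)) ^ 6 + 1)) := by
    rw [f4_S1068 hK]
    ring
  constructor
  · apply IsPGroup.of_card (n := (2 * m + 1) * 12)
    rw [hcU, pow_mul]
  · have h1 := (U.subgroupOf G).card_mul_index
    rw [hcU, hcG] at h1
    have h2 := Nat.eq_of_mul_eq_mul_left (by positivity) h1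
    rw [h2]
    exact lt2_f4_odd_cofactor (2 * m + 1) (by omega)

/-- **the reduction of `lt2_f4` to the squares of `U¹`.** -/
theorem lt2_f4_of_sq (hK : Fintype.card K = 2 ^ (2 * m + 1))
    (hsq : ∀ x ∈ chevF4.posUnipotent K ⊓ twistedF4 K (2 ^ m),
      x * x ∈ ⁅chevF4.posUnipotent K ⊓ twistedF4 K (2 ^ m),
        chevF4.posUnipotent K ⊓ twistedF4 K (2 ^ m)⁆) :
    ∀ P : Sylow 2 (twistedF4 K (2 ^ m)), ∀ y ∈ (P : Subgroup (twistedF4 K (2 ^ m))),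
      y ^ 2 ∈ ⁅(P : Subgroup (twistedF4 K (2 ^ m))), (P : Subgroup (twistedF4 K (2 ^ m)))⁆ := by
  obtain ⟨h1, h2⟩ := lt2_f4_syl (m := m) hK
  exact lt2_op_of_exists ⟨_, h1, h2,
    Cfsg.Agent.Helper8.Sq46.sq46_subgroupOf inf_le_right hsq⟩

/-- the same with squares written as powers. -/
theorem lt2_f4_of_sq' (hK : Fintype.card K = 2 ^ (2 * m + 1))
    (hsq : ∀ x ∈ chevF4.posUnipotent K ⊓ twistedF4 K (2 ^ m),
      x ^ 2 ∈ ⁅chevF4.posUnipotent K ⊓ twistedF4 K (2 ^ m),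
        chevF4.posUnipotent K ⊓ twistedF4 K (2 ^ m)⁆) :
    ∀ P : Sylow 2 (twistedF4 K (2 ^ m)), ∀ y ∈ (P : Subgroup (twistedF4 K (2 ^ m))),
      y ^ 2 ∈ ⁅(P : Subgroup (twistedF4 K (2 ^ m))), (P : Subgroup (twistedF4 K (2 ^ m)))⁆ :=
  lt2_f4_of_sq hK (fun x hx => by rw [← pow_two]; exact hsq x hx)

end Cfsg.Agent.LT2
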