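import Mathlib
import Cfsg.Prelude.Def_LieTypeChar
import Cfsg.Agent.LT2.Gen
import Cfsg.Agent.LT2.ExcChevB
import Cfsg.Agent.LT2.PSL
import Cfsg.Agent.LT2.PSp
import Cfsg.Agent.LT2.POmega
import Cfsg.Agent.LT2.Sz
import Cfsg.Agent.LT2.PSUd
import Cfsg.Agent.LT2.TwE6D4
import Cfsg.Agent.LT2.F4U
import Cfsg.Agent.LT2.TwF4Syl

set_option autoImplicit false

/-!
S4625 (swarm "LT2", architect helper1): assembly of the family theorems.  A Sylow `2`-subgroup `P` of a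
group of Lie type in characteristic `2` has `x ^ 2 ∈ P'` for all `x ∈ P`.  The disjuncts `PΩ_odd`
(needs a field of odd order) and `²G₂` (`p = 3`) of `Cfsg.IsLieTypeChar 2 G` are vacuous.
-/

namespace Cfsg.Agent.LT2

open Cfsg

/-- A finite field of characteristic 2 has even order. -/
theorem lt2_asm_even_card {F : Type*} [Field F] [Fintype F] [CharP F 2] : ¬ Odd (Fintype.card F) := by
  intro h
  have h0 : ((Fintype.card F : ℕ) : F) = 0 := Nat.cast_card_eq_zero F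
  have h2 : (2 : ℕ) ∣ Fintype.card F := (CharP.cast_eq_zero_iff F 2 _).mp h0
  exact (Nat.not_even_iff_odd.mpr h) (even_iff_two_dvd.mpr h2)

/-- `²F₄(q)`, `q = 2^(2m+1) ≥ 8`: helper2's squares in `U¹` (`LT2/F4U.lean`) + helper8's Sylow/transport half
(`LT2/TwF4Syl.lean`). -/
theorem lt2_f4_asm {K : Type*} [Field K] [Fintype K] (m : ℕ) (hm : 1 ≤ m)
    (hK : Fintype.card K = 2 ^ (2 * m + 1)) :
    ∀ P : Sylow 2 (Cfsg.Lie.twistedF4 K (2 ^ m)), ∀ y ∈ (P : Subgroup (Cfsg.Lie.twistedF4 K (2 ^ m))),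
      y ^ 2 ∈ ⁅(P : Subgroup (Cfsg.Lie.twistedF4 K (2 ^ m))), (P : Subgroup (Cfsg.Lie.twistedF4 K (2 ^ m)))⁆ :=
  lt2_f4_of_sq' hK (lt2_f4_U_sq m hm hK)

theorem lt2_main {G : Type*} [Group G] [Finite G] (hG : Cfsg.IsLieTypeChar 2 G) (P : Sylow 2 G) :
    ∀ x : (P : Subgroup G), x ^ 2 ∈ commutator (P : Subgroup G) := by
  rcases hG with h | h | h | h | h | h | h | h | h | h | h
  · obtain ⟨F, _, _, _, n, hn, -, ⟨e⟩⟩ := h
    exact lt2_of_iso_fin e (lt2_psl n hn) P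
  · obtain ⟨F, _, _, _, m, hm, -, ⟨e⟩⟩ := h
    exact lt2_of_iso_fin e (lt2_psp m hm) P
  · obtain ⟨F, _, _, _, n, q, hF, hn, -, ⟨e⟩⟩ := h
    exact lt2_of_iso_fin e (lt2_psu n q hF) P
  · obtain ⟨F, _, _, _, m, -, hodd, -⟩ := h
    exact absurd hodd lt2_asm_even_card
  · obtain ⟨F, _, _, _, m, hm, ⟨e⟩⟩ := h
    exact lt2_of_iso_fin e (lt2_op m hm) P
  · obtain ⟨F, _, _, _, m, a, b, hm, hab, ⟨e⟩⟩ := h
    exact lt2_of_iso_fin e (lt2_om m a b hm hab) P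
  · obtain ⟨F, _, _, _, h⟩ := h
    rcases h with ⟨-, ⟨e⟩⟩ | ⟨⟨e⟩⟩ | ⟨⟨e⟩⟩ | ⟨⟨e⟩⟩ | ⟨⟨e⟩⟩
    · exact lt2_of_iso_fin e lt2_g2 P
    · exact lt2_of_iso_fin e lt2_f4c P
    · exact lt2_of_iso_fin e lt2_e6c P
    · exact lt2_of_iso_fin e lt2_e7c P
    · exact lt2_of_iso_fin e lt2_e8c P
  · obtain ⟨K, _, _, _, q, hq, h⟩ := h
    rcases h with ⟨hK, ⟨e⟩⟩ | ⟨hK, ⟨e⟩⟩
    · exact lt2_of_iso_fin e (lt2_e6 q hq hK) P
    · exact lt2_of_iso_fin e (lt2_d4 q hq hK) P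
  · obtain ⟨-, F, _, _, m, hm, hF, ⟨e⟩⟩ := h
    exact lt2_of_iso_fin e (lt2_sz m hm hF) P
  · obtain ⟨-, K, _, _, m, hm, hK, ⟨e⟩⟩ := h
    exact lt2_of_iso_fin e (lt2_f4_asm m hm hK) P
  · obtain ⟨h32, -⟩ := h
    exact absurd h32 (by norm_num)

end Cfsg.Agent.LT2
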