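import Mathlib
import Cfsg.Agent.Helper7.ChevTwO5
import Cfsg.Agent.Helper7.ChevTwO6
import Cfsg.Agent.LT2.Gen

set_option autoImplicit false

/-!
# LT2, `²E₆(q)` and `³D₄(q)`, `q` even: the fixed points of the unipotent group form a Sylow
`2`-subgroup (helper5)

The reduction of the stubs `lt2_e6`, `lt2_d4` to the statement on the squares of
`U¹ = posUnipotent ⊓ twisted`.
-/

namespace Cfsg.Agent.LT2

open Cfsg Cfsg.Lie Cfsg.Agent.Helper7.Chev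

section arithmetic

theorem lt2_tw_not_dvd_sub {Q : ℕ} (hQ : Even Q) (hQ0 : 0 < Q) (k : ℕ) (hk : k ≠ 0) :
    ¬ 2 ∣ Q ^ k - 1 := by
  have h1 : Even (Q ^ k) := Nat.even_pow.2 ⟨hQ, hk⟩
  have h2 : 0 < Q ^ k := pow_pos hQ0 k
  obtain ⟨c, hc⟩ := h1
  rw [hc]
  omega

theorem lt2_tw_not_dvd_add {Q : ℕ} (hQ : Even Q) (k : ℕ) (hk : k ≠ 0) :
    ¬ 2 ∣ Q ^ k + 1 := by
  have h1 : Even (Q ^ k) := Nat.even_pow.2 ⟨hQ, hk⟩
  obtain ⟨c, hc⟩ := h1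
  rw [hc]
  omega

theorem lt2_tw_not_dvd_mul {a b : ℕ} (ha : ¬ 2 ∣ a) (hb : ¬ 2 ∣ b) : ¬ 2 ∣ a * b := by
  intro h
  rcases (Nat.Prime.dvd_mul Nat.prime_two).mp h with h | h
  · exact ha h
  · exact hb h

theorem lt2_e6_odd_cofactor {Q : ℕ} (hQ : Even Q) (hQ0 : 0 < Q) :
    ¬ 2 ∣ (Q ^ 2 - 1) * (Q ^ 5 + 1) * (Q ^ 6 - 1) * (Q ^ 8 - 1) * (Q ^ 9 + 1) * (Q ^ 12 - 1) := by
  refine lt2_tw_not_dvd_mul (lt2_tw_not_dvd_mul (lt2_tw_not_dvd_mul (lt2_tw_not_dvd_mul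
    (lt2_tw_not_dvd_mul ?_ ?_) ?_) ?_) ?_) ?_
  · exact lt2_tw_not_dvd_sub hQ hQ0 2 (by norm_num)
  · exact lt2_tw_not_dvd_add hQ 5 (by norm_num)
  · exact lt2_tw_not_dvd_sub hQ hQ0 6 (by norm_num)
  · exact lt2_tw_not_dvd_sub hQ hQ0 8 (by norm_num)
  · exact lt2_tw_not_dvd_add hQ 9 (by norm_num)
  · exact lt2_tw_not_dvd_sub hQ hQ0 12 (by norm_num)

theorem lt2_d4_odd_cofactor {Q : ℕ} (hQ : Even Q) (hQ0 : 0 < Q) :
    ¬ 2 ∣ (Q ^ 2 - 1) * (Q ^ 6 - 1) * (Q ^ 8 + Q ^ 4 + 1) := by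
  refine lt2_tw_not_dvd_mul (lt2_tw_not_dvd_mul ?_ ?_) ?_
  · exact lt2_tw_not_dvd_sub hQ hQ0 2 (by norm_num)
  · exact lt2_tw_not_dvd_sub hQ hQ0 6 (by norm_num)
  · have h1 : Even (Q ^ 8) := Nat.even_pow.2 ⟨hQ, by norm_num⟩
    have h2 : Even (Q ^ 4) := Nat.even_pow.2 ⟨hQ, by norm_num⟩
    obtain ⟨c, hc⟩ := h1
    obtain ⟨d, hd⟩ := h2
    rw [hc, hd]
    omega

end arithmetic

variable {K : Type*} [Field K] [Fintype K]

/-- In characteristic `2`, a prime power `q` with `|K| = q ^ e` is a power of `2`. -/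
theorem lt2_tw_q_pow [CharP K 2] {q : ℕ} (hq : IsPrimePow q) {e : ℕ} (he : e ≠ 0)
    (hK : Fintype.card K = q ^ e) : ∃ a : ℕ, a ≠ 0 ∧ q = 2 ^ a := by
  obtain ⟨n, hp, hn⟩ := FiniteField.card K 2
  have hdvd : q ∣ 2 ^ (n : ℕ) := by
    rw [← hn, hK]
    exact dvd_pow_self q he
  obtain ⟨a, -, rfl⟩ := (Nat.dvd_prime_pow Nat.prime_two).1 hdvd
  refine ⟨a, ?_, rfl⟩
  rintro rfl
  exact absurd hq.one_lt (by norm_num)

theorem lt2_tw_q_even [CharP K 2] {q : ℕ} (hq : IsPrimePow q) {e : ℕ} (he : e ≠ 0)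
    (hK : Fintype.card K = q ^ e) : Even q ∧ 0 < q := by
  obtain ⟨a, ha, rfl⟩ := lt2_tw_q_pow hq he hK
  exact ⟨Nat.even_pow.2 ⟨even_two, ha⟩, by positivity⟩

/-- passage to a subgroup containing `H`. -/
theorem lt2_tw_subgroupOf {G : Type*} [Group G] {H L : Subgroup G} (hHL : H ≤ L)
    (h : ∀ x ∈ H, x ^ 2 ∈ ⁅H, H⁆) :
    ∀ x ∈ H.subgroupOf L, x ^ 2 ∈ ⁅H.subgroupOf L, H.subgroupOf L⁆ := by
  intro x hx
  rw [← Subgroup.mem_map_iff_mem L.subtype_injective, Subgroup.map_commutator,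
    Subgroup.subgroupOf_map_subtype, inf_eq_left.mpr hHL]
  exact h _ hx

/-- `U¹` as a subgroup of `²E₆(q)`, `q` even, has `2`-power order and odd index. -/
theorem lt2_e6_syl [CharP K 2] {q : ℕ} (hq : IsPrimePow q) (hK : Fintype.card K = q ^ 2) :
    IsPGroup 2 ↥((chevE6.posUnipotent K ⊓ twistedE6 K q).subgroupOf (twistedE6 K q)) ∧
    ¬ 2 ∣ ((chevE6.posUnipotent K ⊓ twistedE6 K q).subgroupOf (twistedE6 K q)).index := by
  have : Fact (Nat.Prime 2) := ⟨Nat.prime_two⟩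
  obtain ⟨a, ha, hqa⟩ := lt2_tw_q_pow hq (by norm_num : (2 : ℕ) ≠ 0) hK
  obtain ⟨hev, hpos⟩ := lt2_tw_q_even hq (by norm_num : (2 : ℕ) ≠ 0) hK
  set U : Subgroup (GL chevE6.Idx K) := chevE6.posUnipotent K ⊓ twistedE6 K q with hU
  set G : Subgroup (GL chevE6.Idx K) := twistedE6 K q with hG
  have hle : U ≤ G := inf_le_right
  have hcU : Nat.card ↥(U.subgroupOf G) = q ^ 36 := by
    rw [Nat.card_congr (Subgroup.subgroupOfEquivOfLe hle).toEquiv]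
    exact twE6_card_U hq hK
  have hcG := twE6_card hq hK
  constructor
  · apply IsPGroup.of_card (n := a * 36)
    rw [hcU, hqa, pow_mul]
  · intro hdvd
    have h1 := (U.subgroupOf G).card_mul_index
    rw [hcU] at h1
    rw [← hG, ← h1] at hcG
    have h2 : q ^ 36 * (Nat.gcd 3 (q + 1) * (U.subgroupOf G).index) =
        q ^ 36 * ((q ^ 2 - 1) * (q ^ 5 + 1) * (q ^ 6 - 1) * (q ^ 8 - 1) * (q ^ 9 + 1) *
          (q ^ 12 - 1)) := by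
      rw [← mul_assoc, mul_comm (q ^ 36), mul_assoc, hcG]
      ring
    have h3 := Nat.eq_of_mul_eq_mul_left (by positivity) h2
    apply lt2_e6_odd_cofactor hev hpos
    rw [← h3]
    exact Dvd.dvd.mul_left hdvd _

/-- `U¹` as a subgroup of `³D₄(q)`, `q` even, has `2`-power order and odd index. -/
theorem lt2_d4_syl [CharP K 2] {q : ℕ} (hq : IsPrimePow q) (hK : Fintype.card K = q ^ 3) :
    IsPGroup 2 ↥((chevD4.posUnipotent K ⊓ twistedD4 K q).subgroupOf (twistedD4 K q)) ∧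
    ¬ 2 ∣ ((chevD4.posUnipotent K ⊓ twistedD4 K q).subgroupOf (twistedD4 K q)).index := by
  have : Fact (Nat.Prime 2) := ⟨Nat.prime_two⟩
  obtain ⟨a, ha, hqa⟩ := lt2_tw_q_pow hq (by norm_num : (3 : ℕ) ≠ 0) hK
  obtain ⟨hev, hpos⟩ := lt2_tw_q_even hq (by norm_num : (3 : ℕ) ≠ 0) hK
  set U : Subgroup (GL chevD4.Idx K) := chevD4.posUnipotent K ⊓ twistedD4 K q with hU
  set G : Subgroup (GL chevD4.Idx K) := twistedD4 K q with hG
  have hle : U ≤ G := inf_le_right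
  have hcU : Nat.card ↥(U.subgroupOf G) = q ^ 12 := by
    rw [Nat.card_congr (Subgroup.subgroupOfEquivOfLe hle).toEquiv]
    exact twD4_card_U hq hK
  have hcG := twD4_card hq hK
  constructor
  · apply IsPGroup.of_card (n := a * 12)
    rw [hcU, hqa, pow_mul]
  · intro hdvd
    have h1 := (U.subgroupOf G).card_mul_index
    rw [hcU] at h1
    rw [← hG, ← h1] at hcG
    have h2 : q ^ 12 * (U.subgroupOf G).index =
        q ^ 12 * ((q ^ 2 - 1) * (q ^ 6 - 1) * (q ^ 8 + q ^ 4 + 1)) := by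
      rw [hcG]
      ring
    have h3 := Nat.eq_of_mul_eq_mul_left (by positivity) h2
    apply lt2_d4_odd_cofactor hev hpos
    rw [← h3]
    exact hdvd

/-- **the reduction of `lt2_e6` to the squares of `U¹`.** -/
theorem lt2_e6_of_sq [CharP K 2] {q : ℕ} (hq : IsPrimePow q) (hK : Fintype.card K = q ^ 2)
    (hsq : ∀ x ∈ chevE6.posUnipotent K ⊓ twistedE6 K q,
      x ^ 2 ∈ ⁅chevE6.posUnipotent K ⊓ twistedE6 K q, chevE6.posUnipotent K ⊓ twistedE6 K q⁆) :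
    ∀ P : Sylow 2 ↥(twistedE6 K q), ∀ y ∈ (P : Subgroup ↥(twistedE6 K q)),
      y ^ 2 ∈ ⁅(P : Subgroup ↥(twistedE6 K q)), (P : Subgroup ↥(twistedE6 K q))⁆ := by
  have : Fact (Nat.Prime 2) := ⟨Nat.prime_two⟩
  obtain ⟨h1, h2⟩ := lt2_e6_syl hq hK
  exact lt2_of_sylow (h1.toSylow h2) (lt2_tw_subgroupOf inf_le_right hsq)

/-- **the reduction of `lt2_d4` to the squares of `U¹`.** -/
theorem lt2_d4_of_sq [CharP K 2] {q : ℕ} (hq : IsPrimePow q) (hK : Fintype.card K = q ^ 3)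
    (hsq : ∀ x ∈ chevD4.posUnipotent K ⊓ twistedD4 K q,
      x ^ 2 ∈ ⁅chevD4.posUnipotent K ⊓ twistedD4 K q, chevD4.posUnipotent K ⊓ twistedD4 K q⁆) :
    ∀ P : Sylow 2 ↥(twistedD4 K q), ∀ y ∈ (P : Subgroup ↥(twistedD4 K q)),
      y ^ 2 ∈ ⁅(P : Subgroup ↥(twistedD4 K q)), (P : Subgroup ↥(twistedD4 K q))⁆ := by
  have : Fact (Nat.Prime 2) := ⟨Nat.prime_two⟩
  obtain ⟨h1, h2⟩ := lt2_d4_syl hq hK
  exact lt2_of_sylow (h1.toSylow h2) (lt2_tw_subgroupOf inf_le_right hsq)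

end Cfsg.Agent.LT2
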