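import Mathlib
import Cfsg.Agent.LT2.TwF4Syl
import Cfsg.Agent.LT2.F4U

set_option autoImplicit false

/-!
S4625, family ²F₄ (finish): every Sylow `2`-subgroup `P` of `²F₄(q)`, `q = 2^(2m+1) ≥ 8`, has all
squares in `⁅P, P⁆`: helper8's Sylow/transport reduction `lt2_f4_of_sq'` applied to `lt2_f4_U_sq`.
-/

namespace Cfsg.Agent.LT2

open Cfsg

/-- (f) ²F₄, in the shape of the swarm stub `lt2_f4` (same arguments). -/
theorem lt2_f4_main {K : Type*} [Field K] [Fintype K] (m : ℕ) (hm : 1 ≤ m)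
    (hK : Fintype.card K = 2 ^ (2 * m + 1)) :
    ∀ P : Sylow 2 (Cfsg.Lie.twistedF4 K (2 ^ m)), ∀ y ∈ (P : Subgroup (Cfsg.Lie.twistedF4 K (2 ^ m))),
      y ^ 2 ∈ ⁅(P : Subgroup (Cfsg.Lie.twistedF4 K (2 ^ m))), (P : Subgroup (Cfsg.Lie.twistedF4 K (2 ^ m)))⁆ :=
  lt2_f4_of_sq' hK (lt2_f4_U_sq m hm hK)

end Cfsg.Agent.LT2
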