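import Cfsg.Agent.LT2.Gen
import Cfsg.Agent.Helper7.ChevTwF1

/-!
# LT2: squares in the derived subgroup for the fixed points `U¹` of a twisted group

In the framework of `Helper7/ChevTwF1` (classes of roots `FCls`, the groups `fM` of fixed points in `U_w⁻`):
if every class group `c.X` has all squares in its derived subgroup, then so has `fM` of the word of a
positive list of classes — in particular `U¹ = U ⊓ Fx`.
-/

set_option autoImplicit false
set_option linter.unusedSectionVars false
set_option linter.unusedVariables false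

namespace Cfsg.Agent.LT2

open Cfsg Cfsg.Lie Matrix Cfsg.Agent.Helper7.Chev

/-- all squares lie in the derived subgroup -/
def lt2_Sq {G : Type*} [Group G] (Z : Subgroup G) : Prop := ∀ z ∈ Z, z ^ 2 ∈ ⁅Z, Z⁆

/-- generated by elements each lying in a subgroup with `lt2_Sq` -/
def lt2_GoodGen {G : Type*} [Group G] (M : Subgroup G) : Prop :=
  ∃ S : Set G, M = Subgroup.closure S ∧
    ∀ s ∈ S, ∃ Z : Subgroup G, Z ≤ M ∧ s ∈ Z ∧ lt2_Sq Z

theorem lt2_GoodGen.sq {G : Type*} [Group G] {M : Subgroup G} (h : lt2_GoodGen M) : lt2_Sq M := by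
  obtain ⟨S, hS, hZ⟩ := h
  apply lt2_sq_of_gen_sub M S hS
  intro s hs
  obtain ⟨Z, hZM, hsZ, hsq⟩ := hZ s hs
  exact Subgroup.commutator_mono hZM hZM (hsq s hsZ)

theorem lt2_Sq.map {G H : Type*} [Group G] [Group H] (f : G →* H) {Z : Subgroup G} (h : lt2_Sq Z) :
    lt2_Sq (Z.map f) := by
  rintro _ ⟨z, hz, rfl⟩
  rw [← Subgroup.map_commutator]
  exact ⟨z ^ 2, h z hz, map_pow _ _ _⟩

variable {D : ChevalleyDatum} {K : Type*} [Field K]
variable (hG : Good2 D) (hT : T0 D) (h8 : (tabOf D).T8) {Fx G1 : Subgroup (GL D.Idx K)}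

include hT h8 in
/-- The groups `fM` of a positive list of classes whose class groups have `lt2_Sq` are `lt2_GoodGen`. -/
theorem lt2_fM_goodGen : ∀ L : List (FCls hG K Fx G1), FClsPos hG L → (∀ c ∈ L, lt2_Sq c.X) →
    lt2_GoodGen (fM hG Fx (L.reverse.flatMap FCls.word)) := by
  intro L
  induction L with
  | nil =>
    intro _ _
    rw [List.reverse_nil, List.flatMap_nil, fM_nil hG hT]
    exact ⟨∅, Subgroup.closure_empty.symm, fun s hs => absurd hs (Set.notMem_empty s)⟩
  | cons c L ih =>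
    intro hpp hsq
    obtain ⟨hpos, hpp'⟩ := hpp
    rw [List.reverse_cons, List.flatMap_append, List.flatMap_singleton]
    set w' : List ℕ := L.reverse.flatMap FCls.word with hw'def
    have hw' : ∀ i ∈ w', i < D.rank := flatMap_word_lt hG L.reverse
    obtain ⟨ih1, -, -⟩ := fM_main hG hT h8 L hpp'
    obtain ⟨S, hS, hZ⟩ := ih hpp' (fun c' hc' => hsq c' (List.mem_cons_of_mem _ hc'))
    set n : GL D.Idx K := nWordGL hG c.word with hn
    set φ : GL D.Idx K →* GL D.Idx K := (MulAut.conj n⁻¹).toMonoidHom with hφ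
    have hφa : ∀ v : GL D.Idx K, φ v = n⁻¹ * v * n := by
      intro v
      show n⁻¹ * v * n⁻¹⁻¹ = _
      rw [inv_inv]
    -- conjugates of `fM w'` lie in the new group
    have hconj : ∀ v ∈ fM hG Fx w', φ v ∈ fM hG Fx (w' ++ c.word) := by
      intro v hv
      rw [hφa]
      exact (c.fM_compose hG hT hw' hpos ih1 hv).2
    have hX : c.X ≤ fM hG Fx (w' ++ c.word) := c.X_le_fM hG hT hw' hpos
    refine ⟨φ '' S ∪ (c.X : Set (GL D.Idx K)), ?_, ?_⟩
    · apply le_antisymm
      · intro g hg
        obtain ⟨v', hv', x, hx, rfl⟩ := c.fM_decomp hG hT hw' hpos hg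
        refine mul_mem ?_ (Subgroup.subset_closure (Or.inr hx))
        have h1 : φ v' ∈ Subgroup.closure (φ '' S) := by
          rw [← MonoidHom.map_closure, ← hS]
          exact ⟨v', hv', rfl⟩
        rw [hφa] at h1
        exact Subgroup.closure_mono Set.subset_union_left h1
      · rw [Subgroup.closure_le]
        rintro s (⟨s₀, hs₀, rfl⟩ | hs)
        · apply hconj
          rw [hS]
          exact Subgroup.subset_closure hs₀
        · exact hX hs
    · rintro s (⟨s₀, hs₀, rfl⟩ | hs)
      · obtain ⟨Z, hZM, hsZ, hZsq⟩ := hZ s₀ hs₀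
        refine ⟨Z.map φ, ?_, ⟨s₀, hsZ, rfl⟩, hZsq.map φ⟩
        rintro _ ⟨z, hz, rfl⟩
        exact hconj z (hZM hz)
      · exact ⟨c.X, hX, hs, hsq c List.mem_cons_self⟩

include hT h8 in
/-- `U ⊓ Fx` has all squares in its derived subgroup, for a positive list of classes with `lt2_Sq`
class groups whose word represents the longest element. -/
theorem lt2_posUnipotent_inf_sq (L : List (FCls hG K Fx G1)) (hpp : FClsPos hG L)
    (hsq : ∀ c ∈ L, lt2_Sq c.X) (hw0 : (tabOf D).W0ok (L.reverse.flatMap FCls.word)) :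
    lt2_Sq (D.posUnipotent K ⊓ Fx) := by
  have e : fM hG Fx (L.reverse.flatMap FCls.word) = D.posUnipotent K ⊓ Fx := by
    apply le_antisymm
    · exact inf_le_left
    · intro g hg
      rw [mem_fM]
      refine ⟨hg.1, hg.2, ?_⟩
      rw [← nWordGL_conj_pos_eq_neg hG hT hw0]
      exact ⟨g, hg.1, rfl⟩
  rw [← e]
  exact (lt2_fM_goodGen hG hT h8 L hpp hsq).sq

end Cfsg.Agent.LT2
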