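import Mathlib

set_option autoImplicit false

/-!
The upper unitriangular subgroup of `GL_m(K)`: it is generated by the elementary transvections
`1 + c E_{ij}`, `i < j`, which are involutions in characteristic `2`; hence the square of every
element lies in the derived subgroup.
-/

namespace Cfsg.Agent.LT2

open Matrix
open scoped commutatorElement

variable {K : Type*} [Field K] {m : ℕ}

theorem lt2_utg_diag_mul {M N : Matrix (Fin m) (Fin m) K} (hM : M.BlockTriangular id)
    (hN : N.BlockTriangular id) (i : Fin m) : (M * N) i i = M i i * N i i := by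
  rw [Matrix.mul_apply]
  apply Finset.sum_eq_single i
  · intro j _ hji
    rcases lt_or_gt_of_ne hji with h | h
    · rw [hM h, zero_mul]
    · rw [hN h, mul_zero]
  · intro h
    exact absurd (Finset.mem_univ i) h

theorem lt2_utg_upper_inv {A : GL (Fin m) K}
    (h : (A : Matrix (Fin m) (Fin m) K).BlockTriangular id) :
    ((A⁻¹ : GL (Fin m) K) : Matrix (Fin m) (Fin m) K).BlockTriangular id := by
  haveI : Invertible (A : Matrix (Fin m) (Fin m) K) := Units.invertible A
  have h1 := Matrix.blockTriangular_inv_of_blockTriangular h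
  rw [Matrix.coe_units_inv]
  exact h1

/-- The upper unitriangular subgroup of `GL_m(K)`. -/
def lt2_UTG (K : Type*) [Field K] (m : ℕ) : Subgroup (GL (Fin m) K) where
  carrier := {A | (∀ i j, j < i → (A : Matrix (Fin m) (Fin m) K) i j = 0) ∧
    ∀ i, (A : Matrix (Fin m) (Fin m) K) i i = 1}
  mul_mem' := by
    rintro a b ⟨ha, ha'⟩ ⟨hb, hb'⟩
    have hA : (a : Matrix (Fin m) (Fin m) K).BlockTriangular id := fun i j h => ha i j h
    have hB : (b : Matrix (Fin m) (Fin m) K).BlockTriangular id := fun i j h => hb i j h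
    refine ⟨fun i j h => ?_, fun i => ?_⟩
    · rw [Units.val_mul]
      exact (hA.mul hB) h
    · rw [Units.val_mul, lt2_utg_diag_mul hA hB, ha', hb', one_mul]
  one_mem' := by
    refine ⟨fun i j h => ?_, fun i => ?_⟩
    · rw [Units.val_one, Matrix.one_apply_ne h.ne']
    · rw [Units.val_one, Matrix.one_apply_eq]
  inv_mem' := by
    rintro a ⟨ha, ha'⟩
    have hA : (a : Matrix (Fin m) (Fin m) K).BlockTriangular id := fun i j h => ha i j h
    have hinv := lt2_utg_upper_inv hA
    refine ⟨fun i j h => hinv h, fun i => ?_⟩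
    have h1 := lt2_utg_diag_mul hA hinv i
    rw [← Units.val_mul, mul_inv_cancel, Units.val_one, Matrix.one_apply_eq, ha', one_mul] at h1
    exact h1.symm

theorem mem_lt2_UTG {A : GL (Fin m) K} : A ∈ lt2_UTG K m ↔
    (∀ i j, j < i → (A : Matrix (Fin m) (Fin m) K) i j = 0) ∧
      ∀ i, (A : Matrix (Fin m) (Fin m) K) i i = 1 := Iff.rfl

/-- The elementary transvection `1 + c E_{ij}` as an element of `GL`. -/
def lt2_utg_tv (i j : Fin m) (h : i ≠ j) (c : K) : GL (Fin m) K :=
  ⟨Matrix.transvection i j c, Matrix.transvection i j (-c),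
    by rw [Matrix.transvection_mul_transvection_same i j h, add_neg_cancel,
      Matrix.transvection_zero],
    by rw [Matrix.transvection_mul_transvection_same i j h, neg_add_cancel,
      Matrix.transvection_zero]⟩

theorem lt2_utg_tv_coe (i j : Fin m) (h : i ≠ j) (c : K) :
    ((lt2_utg_tv i j h c : GL (Fin m) K) : Matrix (Fin m) (Fin m) K) =
      Matrix.transvection i j c := rfl

/-- The upper elementary transvections. -/
def lt2_utg_X (K : Type*) [Field K] (m : ℕ) : Set (GL (Fin m) K) :=
  {g | ∃ (i j : Fin m) (h : i < j) (c : K), g = lt2_utg_tv i j (ne_of_lt h) c}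

theorem lt2_utg_tv_apply (a b : Fin m) (c : K) (r s : Fin m) :
    Matrix.transvection a b c r s =
      (1 : Matrix (Fin m) (Fin m) K) r s + (if r = a ∧ s = b then c else 0) := by
  unfold Matrix.transvection
  rw [Matrix.add_apply, Matrix.single_apply]
  congr 1
  by_cases h : a = r ∧ b = s
  · rw [if_pos h, if_pos ⟨h.1.symm, h.2.symm⟩]
  · rw [if_neg h, if_neg (fun h' => h ⟨h'.1.symm, h'.2.symm⟩)]

theorem lt2_utg_tv_mem {i j : Fin m} (h : i < j) (c : K) :
    lt2_utg_tv i j (ne_of_lt h) c ∈ lt2_UTG K m := by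
  rw [mem_lt2_UTG]
  constructor
  · intro r s hsr
    rw [lt2_utg_tv_coe, lt2_utg_tv_apply, Matrix.one_apply_ne hsr.ne', zero_add, if_neg]
    rintro ⟨rfl, rfl⟩
    exact absurd h (not_lt.mpr hsr.le)
  · intro r
    rw [lt2_utg_tv_coe, lt2_utg_tv_apply, Matrix.one_apply_eq, if_neg, add_zero]
    rintro ⟨rfl, h2⟩
    exact (ne_of_lt h) h2

theorem lt2_utg_X_subset : lt2_utg_X K m ⊆ (lt2_UTG K m : Set (GL (Fin m) K)) := by
  rintro g ⟨i, j, h, c, rfl⟩
  exact lt2_utg_tv_mem h c

/-- The support above the diagonal. -/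
noncomputable def lt2_utg_S (M : Matrix (Fin m) (Fin m) K) : Finset (Fin m × Fin m) :=
  (Set.toFinite {p : Fin m × Fin m | p.1 < p.2 ∧ M p.1 p.2 ≠ 0}).toFinset

theorem lt2_utg_mem_S {M : Matrix (Fin m) (Fin m) K} {p : Fin m × Fin m} :
    p ∈ lt2_utg_S M ↔ p.1 < p.2 ∧ M p.1 p.2 ≠ 0 := by
  unfold lt2_utg_S
  rw [Set.Finite.mem_toFinset]
  rfl

theorem lt2_utg_eq_one_of_S_empty {g : GL (Fin m) K} (hg : g ∈ lt2_UTG K m)
    (hS : lt2_utg_S (g : Matrix (Fin m) (Fin m) K) = ∅) : g = 1 := by
  apply Units.ext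
  ext r s
  rw [Units.val_one]
  rcases lt_trichotomy r s with h | h | h
  · rw [Matrix.one_apply_ne h.ne]
    by_contra hne
    have : (r, s) ∈ lt2_utg_S (g : Matrix (Fin m) (Fin m) K) := lt2_utg_mem_S.2 ⟨h, hne⟩
    rw [hS] at this
    exact absurd this (Finset.notMem_empty _)
  · subst h
    rw [Matrix.one_apply_eq]
    exact hg.2 r
  · rw [Matrix.one_apply_ne h.ne']
    exact hg.1 r s h

/-- Generation, by induction on the size of the support. -/
theorem lt2_utg_mem_closure_aux : ∀ (n : ℕ) (g : GL (Fin m) K), g ∈ lt2_UTG K m →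
    (lt2_utg_S (g : Matrix (Fin m) (Fin m) K)).card = n →
      g ∈ Subgroup.closure (lt2_utg_X K m) := by
  intro n
  induction n using Nat.strong_induction_on with
  | _ n ih =>
    intro g hg hn
    by_cases hS : lt2_utg_S (g : Matrix (Fin m) (Fin m) K) = ∅
    · rw [lt2_utg_eq_one_of_S_empty hg hS]
      exact Subgroup.one_mem _
    · have hne : (lt2_utg_S (g : Matrix (Fin m) (Fin m) K)).Nonempty :=
        Finset.nonempty_iff_ne_empty.2 hS
      obtain ⟨p, hp, hmax⟩ := Finset.exists_max_image _ (fun p : Fin m × Fin m => p.1) hne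
      obtain ⟨hlt, hpne⟩ := lt2_utg_mem_S.1 hp
      set i := p.1 with hi
      set j := p.2 with hj
      set c := (g : Matrix (Fin m) (Fin m) K) i j with hc
      -- rows below `i` are clean
      have hclean : ∀ r s : Fin m, i < r → (g : Matrix (Fin m) (Fin m) K) r s =
          (1 : Matrix (Fin m) (Fin m) K) r s := by
        intro r s hr
        rcases lt_trichotomy r s with h | h | h
        · rw [Matrix.one_apply_ne h.ne]
          by_contra hne'
          have hmem : (r, s) ∈ lt2_utg_S (g : Matrix (Fin m) (Fin m) K) :=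
            lt2_utg_mem_S.2 ⟨h, hne'⟩
          have := hmax (r, s) hmem
          exact absurd hr (not_lt.mpr this)
        · subst h
          rw [Matrix.one_apply_eq]
          exact hg.2 r
        · rw [Matrix.one_apply_ne h.ne']
          exact hg.1 r s h
      set t : GL (Fin m) K := lt2_utg_tv i j (ne_of_lt hlt) (-c) with ht
      set g' := t * g with hg'
      have hg'UT : g' ∈ lt2_UTG K m := (lt2_UTG K m).mul_mem (lt2_utg_tv_mem hlt (-c)) hg
      have hcoe : (g' : Matrix (Fin m) (Fin m) K) =
          Matrix.transvection i j (-c) * (g : Matrix (Fin m) (Fin m) K) := by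
        rw [hg', Units.val_mul]
        rfl
      have hentry : ∀ r s : Fin m, (g' : Matrix (Fin m) (Fin m) K) r s =
          if r = i ∧ s = j then 0 else (g : Matrix (Fin m) (Fin m) K) r s := by
        intro r s
        rw [hcoe]
        by_cases hr : r = i
        · subst hr
          rw [Matrix.transvection_mul_apply_same, hclean j s hlt]
          by_cases hs : s = j
          · subst hs
            rw [if_pos ⟨rfl, rfl⟩, Matrix.one_apply_eq, mul_one, ← hc, add_neg_cancel]
          · rw [if_neg (fun h => hs h.2), Matrix.one_apply_ne (Ne.symm hs), mul_zero, add_zero]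
        · rw [Matrix.transvection_mul_apply_of_ne _ _ _ _ hr, if_neg (fun h => hr h.1)]
      have hsub : lt2_utg_S (g' : Matrix (Fin m) (Fin m) K) ⊂
          lt2_utg_S (g : Matrix (Fin m) (Fin m) K) := by
        rw [Finset.ssubset_iff_of_subset]
        · refine ⟨p, hp, ?_⟩
          intro hp'
          have := (lt2_utg_mem_S.1 hp').2
          rw [hentry, if_pos ⟨rfl, rfl⟩] at this
          exact this rfl
        · intro q hq
          obtain ⟨hq1, hq2⟩ := lt2_utg_mem_S.1 hq
          rw [hentry] at hq2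
          by_cases hqp : q.1 = i ∧ q.2 = j
          · rw [if_pos hqp] at hq2
            exact absurd rfl hq2
          · rw [if_neg hqp] at hq2
            exact lt2_utg_mem_S.2 ⟨hq1, hq2⟩
      have hcard := Finset.card_lt_card hsub
      rw [hn] at hcard
      have hmem' := ih _ hcard g' hg'UT rfl
      have hgt : g = t⁻¹ * g' := by rw [hg', inv_mul_cancel_left]
      rw [hgt]
      apply Subgroup.mul_mem _ (Subgroup.inv_mem _ _) hmem'
      exact Subgroup.subset_closure ⟨i, j, hlt, -c, rfl⟩

/-- `lt2_UTG` is generated by the upper elementary transvections. -/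
theorem lt2_UTG_eq_closure : lt2_UTG K m = Subgroup.closure (lt2_utg_X K m) := by
  apply le_antisymm
  · intro g hg
    exact lt2_utg_mem_closure_aux _ g hg rfl
  · rw [Subgroup.closure_le]
    exact lt2_utg_X_subset

/-- In characteristic `2` the elementary transvections are involutions. -/
theorem lt2_utg_sq_eq_one [CharP K 2] {g : GL (Fin m) K} (hg : g ∈ lt2_utg_X K m) :
    g ^ 2 = 1 := by
  obtain ⟨i, j, h, c, rfl⟩ := hg
  apply Units.ext
  rw [pow_two, Units.val_mul, Units.val_one, lt2_utg_tv_coe,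
    Matrix.transvection_mul_transvection_same i j (ne_of_lt h), CharTwo.add_self_eq_zero,
    Matrix.transvection_zero]

/-- If a subgroup is generated by elements whose squares are in its derived subgroup, then all
squares are in the derived subgroup. -/
theorem lt2_utg_sq_of_gen {G : Type*} [Group G] (U : Subgroup G) (X : Set G)
    (hU : U = Subgroup.closure X) (hX : ∀ x ∈ X, x ^ 2 ∈ ⁅U, U⁆) :
    ∀ y ∈ U, y ^ 2 ∈ ⁅U, U⁆ := by
  intro y hy
  rw [hU] at hy
  have key : y ∈ U ∧ y ^ 2 ∈ ⁅U, U⁆ := by
    induction hy using Subgroup.closure_induction with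
    | mem x hx => exact ⟨hU ▸ Subgroup.subset_closure hx, hX x hx⟩
    | one => exact ⟨U.one_mem, by rw [one_pow]; exact Subgroup.one_mem _⟩
    | mul a b _ _ iha ihb =>
      refine ⟨U.mul_mem iha.1 ihb.1, ?_⟩
      have e : (a * b) ^ 2 = a ^ 2 * ⁅a⁻¹, b⁆ * b ^ 2 := by
        rw [commutatorElement_def, pow_two, pow_two, pow_two]
        group
      rw [e]
      exact Subgroup.mul_mem _ (Subgroup.mul_mem _ iha.2
        (Subgroup.commutator_mem_commutator (U.inv_mem iha.1) ihb.1)) ihb.2
    | inv a _ iha =>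
      refine ⟨U.inv_mem iha.1, ?_⟩
      have e : (a⁻¹) ^ 2 = (a ^ 2)⁻¹ := by rw [pow_two, pow_two]; group
      rw [e]
      exact Subgroup.inv_mem _ iha.2
  exact key.2

/-- **Squares in the derived subgroup** of the unitriangular group in characteristic `2`. -/
theorem lt2_UTG_sq [CharP K 2] : ∀ A ∈ lt2_UTG K m, A ^ 2 ∈ ⁅lt2_UTG K m, lt2_UTG K m⁆ := by
  apply lt2_utg_sq_of_gen (lt2_UTG K m) (lt2_utg_X K m) lt2_UTG_eq_closure
  intro x hx
  rw [lt2_utg_sq_eq_one hx]
  exact Subgroup.one_mem _

/-- The version for the image under a homomorphism (Levi embeddings). -/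
theorem lt2_UTG_map_sq [CharP K 2] {H : Type*} [Group H] (φ : GL (Fin m) K →* H)
    (V : Subgroup H) (h : (lt2_UTG K m).map φ ≤ V) :
    ∀ A ∈ lt2_UTG K m, (φ A) ^ 2 ∈ ⁅V, V⁆ := by
  intro A hA
  have h1 : φ (A ^ 2) ∈ (⁅lt2_UTG K m, lt2_UTG K m⁆).map φ :=
    Subgroup.mem_map_of_mem φ (lt2_UTG_sq A hA)
  rw [Subgroup.map_commutator, map_pow] at h1
  exact Subgroup.commutator_mono h h h1

end Cfsg.Agent.LT2
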